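import Cfsg.Agent.Lib.CASimple.Main
import Cfsg.Agent.Lib.ZassSuz.Main
import Mathlib.GroupTheory.GroupAction.FixedPoints

/-!
# Involution centralisers forming a partition component with trivial intersections
-/

set_option autoImplicit false
set_option linter.style.haveILetI false
set_option linter.unusedSectionVars false

namespace Cfsg.Agent.TICent

open MulAction Subgroup CASimple

universe u v

variable {G : Type u} [Group G]

/-- The configuration. -/
structure Cfg (G : Type u) [Group G] : Prop where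
  ti : ∀ {s : G}, Invn s → ∀ {g a : G}, a ∈ C s → a ≠ 1 → g * a * g⁻¹ ∈ C s → g ∈ N s
  cent : ∀ {s : G}, Invn s → ∀ {a : G}, a ∈ C s → a ≠ 1 → C a ≤ C s
  comm_pair : ∀ {s : G}, Invn s → ∃ w : G, Invn w ∧ w ∈ C s ∧ w ≠ s
  noncomm : ∀ {s : G}, Invn s → ∃ w : G, Invn w ∧ w ∉ C s

namespace Cfg

variable (hc : Cfg G)
include hc

theorem C_eq {s w : G} (hs : Invn s) (hw : Invn w) (h : w ∈ C s) : C w = C s :=
  le_antisymm (hc.cent hs h hw.1) (hc.cent hw (mem_C.2 (mem_C.1 h).symm) hs.1)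

theorem mem_N_iff {s g : G} (hs : Invn s) : g ∈ N s ↔ g * s * g⁻¹ ∈ C s :=
  ⟨fun hg => conj_mem_of_mem_N hg (self_mem_C s), fun hg => hc.ti hs (self_mem_C s) hs.1 hg⟩

variable [Finite G]

theorem sylow_le {t : G} (ht : Invn t) : ∃ S : Sylow 2 G, (S : Subgroup G) ≤ C t := by
  haveI : Fact (Nat.Prime 2) := ⟨Nat.prime_two⟩
  have h : IsPGroup 2 (zpowers t) := by
    refine IsPGroup.of_card (n := 1) ?_
    rw [Nat.card_zpowers, pow_one]
    exact orderOf_eq_prime (by rw [pow_two]; exact ht.2) ht.1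
  obtain ⟨S, hS⟩ := h.exists_le_sylow
  have htS : t ∈ (S : Subgroup G) := hS (mem_zpowers t)
  haveI : Nontrivial (S : Subgroup G) :=
    ⟨⟨⟨t, htS⟩, 1, fun e => ht.1 (congrArg Subtype.val e)⟩⟩
  haveI := S.2.center_nontrivial
  obtain ⟨⟨z, hz⟩, hz1⟩ := exists_ne (1 : Subgroup.center (S : Subgroup G))
  have hzS : ∀ g ∈ (S : Subgroup G), g ∈ C (z : G) := fun g hg =>
    mem_C.2 (congrArg Subtype.val (Subgroup.mem_center_iff.1 hz ⟨g, hg⟩))
  have hz1' : (z : G) ≠ 1 := fun e => hz1 (Subtype.ext (Subtype.ext e))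
  have hzt : (z : G) ∈ C t := mem_C.2 (mem_C.1 (hzS t htS)).symm
  exact ⟨S, fun g hg => hc.cent ht hzt hz1' (hzS g hg)⟩

theorem odd_relIndex {t : G} (ht : Invn t) : ¬ 2 ∣ (C t).relIndex (N t) := by
  haveI : Fact (Nat.Prime 2) := ⟨Nat.prime_two⟩
  obtain ⟨S, hS⟩ := hc.sylow_le ht
  intro h
  have h1 : (C t).relIndex (N t) ∣ (S : Subgroup G).index :=
    (Dvd.intro _ (relIndex_mul_index le_normalizer)).trans (index_dvd_of_le hS)
  exact S.not_dvd_index (h.trans h1)

theorem mem_C_of_sq {t w : G} (ht : Invn t) (hw : w ∈ N t) (hw2 : w * w = 1) : w ∈ C t := by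
  haveI : ((C t).subgroupOf (N t)).Normal := normal_in_normalizer
  have h := Subgroup.pow_index_mem ((C t).subgroupOf (N t)) ⟨w, hw⟩
  obtain ⟨j, hj⟩ := Nat.odd_iff.2 (Nat.two_dvd_ne_zero.1 (hc.odd_relIndex ht))
  rw [show ((C t).subgroupOf (N t)).index = 2 * j + 1 from hj, mem_subgroupOf] at h
  push_cast at h
  rwa [pow_succ, pow_mul, pow_two, hw2, one_pow, one_mul] at h

theorem isConj_invn {u v : G} (hu : Invn u) (hv : Invn v) : IsConj u v := by
  have key : ∀ a b : G, Invn a → Invn b → b ∉ C a → IsConj a b := fun a b ha hb hab => by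
    refine (conj_or_common ha hb).resolve_right ?_
    rintro ⟨i, hi, hia, hib⟩
    refine hab ?_
    rw [← hc.C_eq ha hi hia]
    exact mem_C.2 (mem_C.1 hib).symm
  by_cases huv : v ∈ C u
  swap
  · exact key u v hu hv huv
  obtain ⟨w, hw, hwu⟩ := hc.noncomm hu
  refine (key u w hu hw hwu).trans (key v w hv hw ?_).symm
  rwa [hc.C_eq hu hv huv]

theorem card_J {t : G} (ht : Invn t) :
    Nat.card {w : G // Invn w ∧ w ∈ C t} = (C t).relIndex (N t) := by
  refine card_orbit_conj (N t) t {w | Invn w ∧ w ∈ C t}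
    (fun g hg => ⟨ht.conj g, conj_mem_of_mem_N hg (self_mem_C t)⟩) fun w hw => ?_
  obtain ⟨g, hg⟩ := isConj_iff.1 (hc.isConj_invn ht hw.1)
  exact ⟨g, (hc.mem_N_iff ht).2 (hg ▸ hw.2), hg⟩

theorem card_invn {t : G} (ht : Invn t) : Nat.card {w : G // Invn w} = (C t).index := by
  rw [← relIndex_top_right]
  refine card_orbit_conj ⊤ t {w | Invn w} (fun g _ => ht.conj g) fun w hw => ?_
  obtain ⟨g, hg⟩ := isConj_iff.1 (hc.isConj_invn ht hw)
  exact ⟨g, mem_top g, hg⟩

theorem two_le_relIndex {t : G} (ht : Invn t) : 2 ≤ (C t).relIndex (N t) := by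
  obtain ⟨w, hw, hwt, hne⟩ := hc.comm_pair ht
  rw [← hc.card_J ht]
  haveI : Nontrivial {w : G // Invn w ∧ w ∈ C t} :=
    ⟨⟨⟨w, hw, hwt⟩, ⟨t, ht, self_mem_C t⟩, fun e => hne (congrArg Subtype.val e)⟩⟩
  exact Finite.one_lt_card

theorem N_ne_top {t : G} (ht : Invn t) : N t ≠ ⊤ := fun h => by
  obtain ⟨w, hw, hwt⟩ := hc.noncomm ht
  obtain ⟨g, hg⟩ := isConj_iff.1 (hc.isConj_invn ht hw)
  exact hwt (hg ▸ conj_mem_of_mem_N (h ▸ mem_top g) (self_mem_C t))

end Cfg

/-- The action on the cosets of the normaliser of an involution centraliser. -/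
structure Pts (G : Type u) [Group G] (Ω : Type v) [MulAction G Ω] : Prop where
  trans : IsPretransitive G Ω
  exists_inv : ∀ x : Ω, ∃ s : G, Invn s ∧ stabilizer G x = N s
  inj : ∀ x y : Ω, stabilizer G x = stabilizer G y → x = y

section Counting

variable [Finite G] {Ω : Type v} [MulAction G Ω] [Finite Ω]
variable (hc : Cfg G) (P : Pts G Ω)
include hc P

theorem meet_trivial {x y : Ω} (hxy : x ≠ y) {s : G} (hs : Invn s) (hx : stabilizer G x = N s)
    {u : G} (hu : Invn u) (hux : u • x = y) {a : G} (ha : a ∈ C s) (hay : a • y = y) : a = 1 := by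
  have huy : u • y = x := by rw [← hux, ← mul_smul, hu.2, one_smul]
  set b := u * a * u with hb
  have hbx : b ∈ N s := by
    rw [← hx, mem_stabilizer_iff, hb, mul_smul, mul_smul, hux, hay, huy]
  have huN : u ∉ N s := fun h => hxy (by rw [← hux]; exact (mem_stabilizer_iff.1 (hx ▸ h)).symm)
  have key : ∀ c ∈ C s, c ≠ 1 → u * c * u ∉ C s := fun c hcs hc1 h => by
    refine huN (hc.ti hs hcs hc1 ?_)
    rwa [hu.inv_eq]
  set c := a * (b * a⁻¹ * b⁻¹) with hcdef
  have hcs : c ∈ C s := mul_mem ha (conj_mem_of_mem_N hbx (inv_mem ha))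
  have hucu : u * c * u = c⁻¹ := by
    rw [hcdef, hb, mul_inv_rev, mul_inv_rev, hu.inv_eq]
    simp only [mul_inv_rev, inv_inv, hu.inv_eq, mul_assoc]
    simp only [hu.2, reduceCtorEq, mul_one, ← mul_assoc u u, one_mul]
  have hc1 : c = 1 := by
    by_contra h
    exact key c hcs h (hucu ▸ inv_mem hcs)
  by_contra ha1
  have hba : b ∈ C a := mem_C.2 (by
    have := congrArg (fun e => e * (b * a)) hc1
    simp only [hcdef, one_mul] at this
    rw [show a * (b * a⁻¹ * b⁻¹) * (b * a) = a * b by group] at this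
    exact this.symm)
  exact key a ha ha1 (hc.cent hs ha ha1 hba)

theorem card_invn_eq {x : Ω} {s : G} (hs : Invn s) (hx : stabilizer G x = N s) :
    Nat.card {w : G // Invn w} = (C s).relIndex (N s) * Nat.card Ω := by
  haveI := P.trans
  rw [hc.card_invn hs, ← relIndex_mul_index (le_normalizer : C s ≤ N s)]
  congr 1
  show (N s).index = _
  rw [← hx, index_stabilizer_of_transitive]

/-- The injection of a two-point stabiliser into the stabiliser modulo its kernel. -/
def toQuot {x : Ω} {s : G} (hx : stabilizer G x = N s) (y : Ω)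
    (d : (stabilizer G x ⊓ stabilizer G y : Subgroup G)) : N s ⧸ (C s).subgroupOf (N s) :=
  QuotientGroup.mk ⟨(d : G), hx ▸ d.2.1⟩

theorem toQuot_injective {x y : Ω} (hxy : x ≠ y) {s : G} (hs : Invn s)
    (hx : stabilizer G x = N s) {u : G} (hu : Invn u) (hux : u • x = y) :
    Function.Injective (toQuot hx y) := by
  intro d d' h
  rw [toQuot, toQuot, QuotientGroup.eq, mem_subgroupOf] at h
  push_cast at h
  have h1 := meet_trivial hc P hxy hs hx hu hux h
    (mem_stabilizer_iff.1 (mul_mem (inv_mem d.2.2) d'.2.2))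
  exact Subtype.ext (inv_mul_eq_one.1 h1)

/-- The injection of the involutions of a coset into a two-point stabiliser. -/
def toTwo {x y : Ω} {u : G} (hu : Invn u) (hux : u • x = y) (w : {w : G // Invn w ∧ w • x = y}) :
    (stabilizer G x ⊓ stabilizer G y : Subgroup G) :=
  ⟨u * w, by
    have huy : u • y = x := by rw [← hux, ← mul_smul, hu.2, one_smul]
    refine mem_inf.2 ⟨?_, ?_⟩ <;> rw [mem_stabilizer_iff, mul_smul]
    · rw [w.2.2, huy]
    · rw [show (w : G) • y = x from (congrArg ((w : G) • ·) w.2.2).symm.trans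
        (by show (w : G) • ((w : G) • x) = x; rw [← mul_smul, w.2.1.2, one_smul]), hux]⟩

theorem toTwo_injective {x y : Ω} {u : G} (hu : Invn u) (hux : u • x = y) :
    Function.Injective (toTwo hu hux) := fun _ _ h =>
  Subtype.ext (mul_left_cancel (congrArg Subtype.val h))

theorem card_swap_le {x y : Ω} (hxy : x ≠ y) {s : G} (hs : Invn s) (hx : stabilizer G x = N s) :
    Nat.card {w : G // Invn w ∧ w • x = y} ≤ (C s).relIndex (N s) := by
  rcases isEmpty_or_nonempty {w : G // Invn w ∧ w • x = y} with h | ⟨⟨u, hu, hux⟩⟩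
  · simp
  calc Nat.card {w : G // Invn w ∧ w • x = y}
      ≤ Nat.card (stabilizer G x ⊓ stabilizer G y : Subgroup G) :=
        Nat.card_le_card_of_injective _ (toTwo_injective hc P hu hux)
    _ ≤ _ := Nat.card_le_card_of_injective _ (toQuot_injective hc P hxy hs hx hu hux)

theorem card_swap {x : Ω} {s : G} (hs : Invn s) (hx : stabilizer G x = N s) {y : Ω} (hxy : x ≠ y) :
    Nat.card {w : G // Invn w ∧ w • x = y} = (C s).relIndex (N s) := by
  classical
  haveI : Fintype Ω := Fintype.ofFinite Ω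
  have hsum : Nat.card {w : G // Invn w} = ∑ z : Ω, Nat.card {w : G // Invn w ∧ w • x = z} := by
    rw [← Nat.card_congr (Equiv.sigmaFiberEquiv fun w : {w : G // Invn w} => (w : G) • x),
      Nat.card_sigma]
    exact Finset.sum_congr rfl fun z _ => Nat.card_congr
      (Equiv.subtypeSubtypeEquivSubtypeInter Invn fun w : G => w • x = z)
  have hfix : Nat.card {w : G // Invn w ∧ w • x = x} = (C s).relIndex (N s) := by
    rw [← hc.card_J hs]
    refine Nat.card_congr (Equiv.subtypeEquivRight fun w => ?_)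
    refine and_congr_right fun hw => ⟨fun h => ?_, fun h => ?_⟩
    · exact hc.mem_C_of_sq hs (hx ▸ mem_stabilizer_iff.2 h) hw.2
    · exact mem_stabilizer_iff.1 (hx.symm ▸ le_normalizer h)
  rw [card_invn_eq hc P hs hx, ← Finset.add_sum_erase _ _ (Finset.mem_univ x), hfix,
    Nat.card_eq_fintype_card] at hsum
  have hle : ∀ z ∈ Finset.univ.erase x,
      Nat.card {w : G // Invn w ∧ w • x = z} ≤ (C s).relIndex (N s) := fun z hz =>
    card_swap_le hc P (Finset.mem_erase.1 hz).1.symm hs hx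
  refine (Finset.sum_eq_sum_iff_of_le hle).1 ?_ y (Finset.mem_erase.2 ⟨hxy.symm, Finset.mem_univ y⟩)
  rw [Finset.sum_const, Finset.card_erase_of_mem (Finset.mem_univ x), Finset.card_univ, smul_eq_mul]
  have : 0 < Fintype.card Ω := Fintype.card_pos_iff.2 ⟨x⟩
  obtain ⟨m, hm⟩ : ∃ m, Fintype.card Ω = m + 1 := ⟨Fintype.card Ω - 1, by omega⟩
  rw [hm, mul_add, mul_one] at hsum
  rw [hm, Nat.add_sub_cancel, mul_comm m]
  omega

theorem relIndex_eq {x y : Ω} {s r : G} (hs : Invn s) (hx : stabilizer G x = N s) (hr : Invn r)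
    (hy : stabilizer G y = N r) : (C s).relIndex (N s) = (C r).relIndex (N r) := by
  haveI : Nonempty Ω := ⟨x⟩
  exact Nat.eq_of_mul_eq_mul_right Nat.card_pos
    ((card_invn_eq hc P hs hx).symm.trans (card_invn_eq hc P hr hy))

/-- Everything about one pair of points. -/
theorem pair {x y : Ω} (hxy : x ≠ y) {s : G} (hs : Invn s) (hx : stabilizer G x = N s) :
    ∃ u : G, Invn u ∧ u • x = y ∧ (∀ a ∈ C s, a • y = y → a = 1) ∧
      Nat.card (stabilizer G x ⊓ stabilizer G y : Subgroup G) = (C s).relIndex (N s) ∧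
      (∀ d ∈ stabilizer G x ⊓ stabilizer G y, u * d * u = d⁻¹) ∧
      Function.Surjective (toQuot hx y) := by
  have hU := card_swap hc P hs hx hxy
  have h2 := hc.two_le_relIndex hs
  obtain ⟨⟨u, hu, hux⟩⟩ : Nonempty {w : G // Invn w ∧ w • x = y} :=
    (Nat.card_pos_iff.1 (by omega)).1
  have hinj := toTwo_injective hc P hu hux
  have hinj' := toQuot_injective hc P hxy hs hx hu hux
  have hle := Nat.card_le_card_of_injective _ hinj
  have hle' := Nat.card_le_card_of_injective _ hinj'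
  rw [hU] at hle
  change Nat.card (stabilizer G x ⊓ stabilizer G y : Subgroup G) ≤ (C s).relIndex (N s) at hle'
  have hcard := le_antisymm hle' hle
  refine ⟨u, hu, hux, fun a ha => meet_trivial hc P hxy hs hx hu hux ha, hcard, ?_, ?_⟩
  · intro d hd
    obtain ⟨w', hdw⟩ := (hinj.bijective_of_nat_card_le (by rw [hU, hcard])).2 ⟨d, hd⟩
    obtain ⟨w, hw, hwx⟩ := w'
    have hdw' : u * w = d := congrArg Subtype.val hdw
    rw [← hdw', mul_inv_rev, hw.inv_eq, hu.inv_eq, ← mul_assoc, hu.2, one_mul]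
  · exact (hinj'.bijective_of_nat_card_le (by rw [hcard]; exact le_rfl)).2

theorem two_comm {x y : Ω} (hxy : x ≠ y) : ∀ d ∈ stabilizer G x ⊓ stabilizer G y,
    ∀ e ∈ stabilizer G x ⊓ stabilizer G y, d * e = e * d := by
  obtain ⟨s, hs, hx⟩ := P.exists_inv x
  obtain ⟨u, hu, -, -, -, hinv, -⟩ := pair hc P hxy hs hx
  intro d hd e he
  refine inv_injective ?_
  rw [← hinv _ (mul_mem hd he), ← hinv _ (mul_mem he hd)]
  calc u * (d * e) * u = (u * d * u) * (u * e * u) := by
        rw [show u * d * u * (u * e * u) = u * d * (u * u) * e * u by group, hu.2]; group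
    _ = (e * d)⁻¹ := by rw [hinv d hd, hinv e he]; group
    _ = u * (e * d) * u := (hinv _ (mul_mem he hd)).symm

theorem sq_ne_one {x y : Ω} (hxy : x ≠ y) {d : G} (hd : d ∈ stabilizer G x ⊓ stabilizer G y)
    (hd1 : d ≠ 1) : d * d ≠ 1 := fun h => by
  obtain ⟨s, hs, hx⟩ := P.exists_inv x
  obtain ⟨u, -, -, hm, -⟩ := pair hc P hxy hs hx
  exact hd1 (hm d (hc.mem_C_of_sq hs (hx ▸ hd.1) h) hd.2)

theorem centralizer_inf {x y : Ω} (hxy : x ≠ y) {d : G}
    (hd : d ∈ stabilizer G x ⊓ stabilizer G y) (hd1 : d ≠ 1) :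
    C d ⊓ stabilizer G x = stabilizer G x ⊓ stabilizer G y := by
  refine le_antisymm (fun z hz => ?_) fun z hz => ⟨mem_C.2 (two_comm hc P hxy z hz d hd), hz.1⟩
  obtain ⟨s, hs, hx⟩ := P.exists_inv x
  obtain ⟨u, -, -, hm, -, -, hsurj⟩ := pair hc P hxy hs hx
  obtain ⟨e, he⟩ := hsurj (QuotientGroup.mk ⟨z, hx ▸ hz.2⟩)
  rw [toQuot, QuotientGroup.eq, mem_subgroupOf] at he
  push_cast at he
  set a := (e : G)⁻¹ * z with ha
  have hze : z = e * a := by rw [ha, mul_inv_cancel_left]
  have had : a ∈ C d := mul_mem (inv_mem (mem_C.2 (two_comm hc P hxy e e.2 d hd))) hz.1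
  have ha1 : a = 1 := by
    by_contra h
    exact hd1 (hm d (hc.cent hs he h (mem_C.2 (mem_C.1 had).symm)) hd.2)
  rw [hze, ha1, mul_one]
  exact e.2

theorem no_third {x y z : Ω} (hxy : x ≠ y) (hzx : z ≠ x) (hzy : z ≠ y) {d : G} (hdx : d • x = x)
    (hdy : d • y = y) (hdz : d • z = z) : d = 1 := by
  classical
  by_contra hd1
  obtain ⟨s, hs, hx⟩ := P.exists_inv x
  set k := (C s).relIndex (N s) with hk
  have hk2 : 2 ≤ k := hc.two_le_relIndex hs
  have htwo : ∀ p q : Ω, p ≠ q →
      Nat.card (stabilizer G p ⊓ stabilizer G q : Subgroup G) = k := fun p q hpq => by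
    obtain ⟨r, hr, hp⟩ := P.exists_inv p
    obtain ⟨u, -, -, -, hcard, -⟩ := pair hc P hpq hr hp
    rw [hcard, hk, relIndex_eq hc P hr hp hs hx]
  set F : Set Ω := {p | d • p = p} with hF
  set B := C d with hB
  have hstabB : ∀ p ∈ F, Nat.card (B ⊓ stabilizer G p : Subgroup G) = k := fun p hp => by
    obtain ⟨q, hq, hpq⟩ : ∃ q ∈ F, p ≠ q := by
      by_cases h : p = x
      · exact ⟨y, hdy, h ▸ hxy⟩
      · exact ⟨x, hdx, h⟩
    rw [centralizer_inf hc P hpq (mem_inf.2 ⟨hp, hq⟩) hd1, htwo p q hpq]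
  obtain ⟨u, hu, hux, -, -, hinv, -⟩ := pair hc P hxy hs hx
  have hud : u * d * u = d⁻¹ := hinv d (mem_inf.2 ⟨hdx, hdy⟩)
  have hd2 := sq_ne_one hc P hxy (mem_inf.2 ⟨hdx, hdy⟩) hd1
  have huB : u ∉ B := fun h => hd2 (by
    have h' : u * d * u = d := by rw [mem_C.1 h, mul_assoc, hu.2, mul_one]
    rw [h'] at hud
    exact mul_eq_one_iff_eq_inv.2 hud)
  have hud'' : u * d = d⁻¹ * u := by rw [← hud, mul_assoc, hu.2, mul_one]
  have hBu : ∀ b ∈ B, u * b * u ∈ B := fun b hb => by
    have hb' := mem_C.1 (inv_mem (mem_C.2 (mem_C.1 hb).symm : d ∈ C b))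
    have hud' : d * u = u * d⁻¹ := by
      rw [← hud, ← mul_assoc, ← mul_assoc, hu.2, one_mul]
    rw [hB, mem_C]
    calc u * b * u * d = u * (b * d⁻¹) * u := by rw [mul_assoc, hud'']; group
      _ = u * d⁻¹ * b * u := by rw [← hb']; group
      _ = d * (u * b * u) := by rw [← hud']; group
  let φ : B →* B :=
    { toFun := fun b => ⟨u * b * u, hBu b b.2⟩
      map_one' := Subtype.ext (by simp [hu.2])
      map_mul' := fun a b => Subtype.ext (by
        show u * (a * b : G) * u = u * a * u * (u * b * u)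
        rw [show u * (a : G) * u * (u * b * u) = u * a * (u * u) * b * u by group, hu.2]; group) }
  have hinvol : Function.Involutive φ := fun b => Subtype.ext (by
    show u * (u * (b : G) * u) * u = b
    rw [show u * (u * (b : G) * u) * u = (u * u) * b * (u * u) by group, hu.2, one_mul, mul_one])
  have hfpf : MonoidHom.FixedPointFree φ := by
    intro b hb
    by_contra hb1
    have hb1' : (b : G) ≠ 1 := fun e => hb1 (Subtype.ext e)
    have hbu : u * (b : G) * u = b := congrArg Subtype.val hb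
    have hbC : (b : G) ∈ C u := mem_C.2 (by
      calc (b : G) * u = u * b * u * u := by rw [hbu]
        _ = u * b := by rw [mul_assoc, hu.2, mul_one])
    have hdC : d ∈ C u := hc.cent hu hbC hb1' (mem_C.2 (mem_C.1 b.2).symm)
    exact huB (mem_C.2 (mem_C.1 hdC).symm)
  have hBinv : ∀ b ∈ B, u * b * u = b⁻¹ := fun b hb =>
    congrArg Subtype.val (congrFun (MonoidHom.FixedPointFree.coe_eq_inv_of_involutive hfpf hinvol)
      (⟨b, hb⟩ : B))
  -- the involutions inverting `d`
  set W := {w : G // Invn w ∧ w * d * w = d⁻¹}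
  have hWB : Nat.card W = Nat.card B := by
    refine Nat.card_congr (Equiv.ofBijective (fun w : W => (⟨u * w, mem_C.2 ?_⟩ : B)) ⟨?_, ?_⟩)
    · obtain ⟨w, hw, hwd⟩ := w
      show u * w * d = d * (u * w)
      calc u * w * d = u * (w * d * w) * w := by
            rw [show u * (w * d * w) * w = u * (w * d) * (w * w) by group, hw.2, mul_one, mul_assoc]
        _ = u * d⁻¹ * w := by rw [hwd]
        _ = u * (u * d * u) * w := by rw [hud]
        _ = d * (u * w) := by rw [show u * (u * d * u) * w = (u * u) * d * (u * w) by group, hu.2, one_mul]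
    · exact fun a b h => Subtype.ext (mul_left_cancel (congrArg Subtype.val h))
    · rintro ⟨b, hb⟩
      have hbub : b * u * b = u := by
        calc b * u * b = b * (u * b * u) * u := by
              rw [show b * (u * b * u) * u = b * u * b * (u * u) by group, hu.2, mul_one]
          _ = u := by rw [hBinv b hb, mul_inv_cancel, one_mul]
      refine ⟨⟨u * b, ⟨fun e => huB ?_, ?_⟩, ?_⟩, Subtype.ext ?_⟩
      · rw [eq_inv_of_mul_eq_one_left e]; exact inv_mem hb
      · rw [show u * b * (u * b) = u * (b * u * b) by group, hbub, hu.2]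
      · rw [show u * b * d * (u * b) = u * ((b * d) * u * b) by group, mem_C.1 hb,
          show u * (d * b * u * b) = u * d * (b * u * b) by group, hbub, hud]
      · show u * (u * b) = b
        rw [← mul_assoc, hu.2, one_mul]
  have hWF : Nat.card W = k * (F \ {x}).ncard := by
    have hmaps : ∀ w : W, (w : G) • x ∈ F \ {x} := by
      rintro ⟨w, hw, hwd⟩
      have hdw : d * w = w * d⁻¹ := by
        rw [← hwd, ← mul_assoc, ← mul_assoc, hw.2, one_mul]
      refine ⟨?_, fun h => hd2 ?_⟩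
      · show d • w • x = w • x
        rw [← mul_smul, hdw, mul_smul, inv_smul_eq_iff.2 hdx.symm]
      · obtain ⟨r, -, -, hm, -⟩ := pair hc P hxy hs hx
        have hwC : w ∈ C s := hc.mem_C_of_sq hs (hx ▸ mem_stabilizer_iff.2 h) hw.2
        have h1 : w * (d * w * d⁻¹) = (d * d)⁻¹ := by
          rw [show w * (d * w * d⁻¹) = w * d * w * d⁻¹ by group, hwd]; group
        have h2 := mul_mem hwC (conj_mem_of_mem_N (hx ▸ mem_stabilizer_iff.2 hdx) hwC)
        rw [h1] at h2
        exact hm _ (inv_inv (d * d) ▸ inv_mem h2) (by rw [mul_smul, hdy, hdy])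
    have hfib : ∀ p : ↥(F \ {x}),
        Nat.card {w : W // (⟨_, hmaps w⟩ : ↥(F \ {x})) = p} = k := fun ⟨p, hp, hpx⟩ => by
      have hxp : x ≠ p := fun e => hpx e.symm
      rw [hk, ← card_swap hc P hs hx hxp]
      refine Nat.card_congr (Equiv.ofBijective
        (fun w => (⟨(w.1 : G), w.1.2.1, congrArg Subtype.val w.2⟩ :
          {w : G // Invn w ∧ w • x = p})) ⟨?_, ?_⟩)
      · exact fun a b h => Subtype.ext (Subtype.ext (congrArg Subtype.val h :))
      · rintro ⟨w, hw, hwp⟩
        obtain ⟨v, hv, hvp, -, -, hvinv, -⟩ := pair hc P hxp hs hx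
        have hwd : w * d * w = d⁻¹ := by
          have hmem : v * w ∈ stabilizer G x ⊓ stabilizer G p :=
            (toTwo hv hvp ⟨w, hw, hwp⟩).2
          have hcd := two_comm hc P hxp _ hmem d (mem_inf.2 ⟨hdx, hp⟩)
          have hvd := hvinv d (mem_inf.2 ⟨hdx, hp⟩)
          calc w * d * w = v * ((v * w) * d) * w := by
                rw [show v * (v * w * d) * w = (v * v) * w * d * w by group, hv.2, one_mul]
            _ = v * (d * (v * w)) * w := by rw [hcd]
            _ = d⁻¹ := by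
                rw [show v * (d * (v * w)) * w = v * d * v * (w * w) by group, hw.2, mul_one, hvd]
        exact ⟨⟨⟨w, hw, hwd⟩, Subtype.ext hwp⟩, rfl⟩
    rw [← Nat.card_congr (Equiv.sigmaFiberEquiv fun w : W => (⟨_, hmaps w⟩ : ↥(F \ {x})))]
    haveI : Fintype ↥(F \ {x}) := Fintype.ofFinite _
    rw [Nat.card_sigma, Finset.sum_congr rfl (fun p _ => hfib p), Finset.sum_const, Finset.card_univ,
      ← Nat.card_eq_fintype_card, Nat.card_coe_set_eq, smul_eq_mul, mul_comm]
  -- orbits of `B`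
  have horb : ∀ p ∈ F, (orbit B p).ncard * k = Nat.card B := fun p hp => by
    rw [← Nat.card_coe_set_eq, ← hstabB p hp, ← (stabilizer B p).card_mul_index, index_stabilizer,
      ← Nat.card_coe_set_eq, mul_comm]
    congr 1
    refine Nat.card_congr ⟨fun g => ⟨⟨g, g.2.1⟩, mem_stabilizer_iff.2 (mem_stabilizer_iff.1 g.2.2)⟩,
      fun g => ⟨g.1, g.1.2, mem_stabilizer_iff.2 (mem_stabilizer_iff.1 g.2 : (g.1 : G) • p = p)⟩,
      fun _ => rfl, fun _ => rfl⟩
  have hsub : ∀ p ∈ F, orbit B p ⊆ F := by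
    rintro p hp _ ⟨⟨b, hb⟩, rfl⟩
    show d • b • p = b • p
    rw [← mul_smul, ← mem_C.1 hb, mul_smul, show d • p = p from hp]
  set m := (F \ {x}).ncard with hm
  have hmorb : ∀ p ∈ F, (orbit B p).ncard = m := fun p hp => by
    refine Nat.eq_of_mul_eq_mul_right (by omega : 0 < k) ?_
    rw [horb p hp, ← hWB, hWF, mul_comm]
  have hFcard : F.ncard = m + 1 := (Set.ncard_diff_singleton_add_one (show x ∈ F from hdx) (Set.toFinite _)).symm
  obtain ⟨q, hq⟩ : ∃ q, F \ orbit B x = {q} := by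
    refine Set.ncard_eq_one.1 ?_
    rw [Set.ncard_sdiff (hsub x hdx) (Set.toFinite _), hmorb x hdx, hFcard]
    omega
  have hqF : q ∈ F ∧ q ∉ orbit B x := by
    have : q ∈ F \ orbit B x := by rw [hq]; rfl
    exact this
  have hm1 : m ≤ 1 := by
    rw [← hmorb q hqF.1, ← Set.ncard_singleton q, ← hq]
    refine Set.ncard_le_ncard (fun p hp => ⟨hsub q hqF.1 hp, fun hpx => hqF.2 ?_⟩) (Set.toFinite _)
    rw [← orbit_eq_iff.2 hpx, orbit_eq_iff.2 hp]
    exact mem_orbit_self q
  have h2 : ({y, z} : Set Ω) ⊆ F \ {x} := by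
    rintro p (rfl | rfl)
    · exact ⟨hdy, hxy.symm⟩
    · exact ⟨hdz, hzx⟩
  have := Set.ncard_le_ncard h2 (Set.toFinite _)
  rw [Set.ncard_pair hzy.symm] at this
  omega

theorem regular {x : Ω} {s : G} (hs : Invn s) (hx : stabilizer G x = N s) :
    ∀ y z : Ω, y ≠ x → z ≠ x → ∃! a : C s, (a : G) • y = z := by
  classical
  haveI : Fintype Ω := Fintype.ofFinite Ω
  intro y z hy hz
  have hmem : ∀ a : C s, (a : G) • y ≠ x := fun a h => hy (by
    have h1 : (a : G) • x = x := mem_stabilizer_iff.1 (hx.symm ▸ le_normalizer a.2)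
    rw [← h1] at h
    exact smul_left_cancel _ h)
  let f : C s → {w : Ω // w ≠ x} := fun a => ⟨(a : G) • y, hmem a⟩
  have hf : Function.Injective f := fun a b h => by
    obtain ⟨u, -, -, hm, -⟩ := pair hc P hy.symm hs hx
    have h' : (a : G) • y = (b : G) • y := congrArg Subtype.val h
    have := hm ((a : G)⁻¹ * b) (mul_mem (inv_mem a.2) b.2)
      (by rw [mul_smul, ← h', inv_smul_smul])
    exact Subtype.ext (inv_mul_eq_one.1 this)
  have hcard : Nat.card {w : Ω // w ≠ x} ≤ Nat.card (C s) := by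
    set k := (C s).relIndex (N s) with hk
    have hk2 : 2 ≤ k := hc.two_le_relIndex hs
    let T := Σ w : {w : Ω // w ≠ x},
      {d : (stabilizer G x ⊓ stabilizer G w.1 : Subgroup G) // (d : G) ≠ 1}
    have hT : Nat.card T = Nat.card {w : Ω // w ≠ x} * (k - 1) := by
      rw [Nat.card_sigma, Finset.sum_congr rfl (fun w _ => ?_), Finset.sum_const, Finset.card_univ,
        ← Nat.card_eq_fintype_card, smul_eq_mul]
      obtain ⟨u, -, -, -, hc', -⟩ := pair hc P (Ne.symm w.2) hs hx
      haveI : Fintype (stabilizer G x ⊓ stabilizer G w.1 : Subgroup G) := Fintype.ofFinite _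
      rw [hk, ← hc', Nat.card_eq_fintype_card, Nat.card_eq_fintype_card, Fintype.card_subtype_compl]
      congr 1
      rw [Fintype.card_eq_one_iff]
      exact ⟨⟨1, rfl⟩, fun d => Subtype.ext (Subtype.ext d.2)⟩
    let g : T → {n : N s // n ∉ (C s).subgroupOf (N s)} := fun p =>
      ⟨⟨(p.2.1 : G), hx ▸ p.2.1.2.1⟩, fun h => p.2.2 (by
        obtain ⟨u, -, -, hm, -⟩ := pair hc P (Ne.symm p.1.2) hs hx
        exact hm _ h p.2.1.2.2)⟩
    have hg : Function.Injective g := by
      rintro ⟨⟨w, hw⟩, ⟨⟨d, hd⟩, hd1⟩⟩ ⟨⟨w', hw'⟩, ⟨⟨d', hd'⟩, hd1'⟩⟩ h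
      have hdd : d = d' := congrArg (fun n => ((n.1 : N s) : G)) h
      subst hdd
      by_cases hww : w = w'
      · subst hww; rfl
      · exact absurd (no_third hc P (Ne.symm hw) hw' (Ne.symm hww) hd.1 hd.2 hd'.2) hd1
    have hle := Nat.card_le_card_of_injective g hg
    haveI : Fintype (N s) := Fintype.ofFinite _
    rw [hT, Nat.card_eq_fintype_card (α := {n : N s // n ∉ (C s).subgroupOf (N s)}),
      Fintype.card_subtype_compl, ← Nat.card_eq_fintype_card, ← Nat.card_eq_fintype_card,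
      ← ((C s).subgroupOf (N s)).card_mul_index,
      Nat.card_congr (subgroupOfEquivOfLe (le_normalizer : C s ≤ N s)).toEquiv] at hle
    change Nat.card {w : Ω // w ≠ x} * (k - 1) ≤ Nat.card (C s) * k - Nat.card (C s) at hle
    rw [← Nat.mul_sub_one] at hle
    exact Nat.le_of_mul_le_mul_right hle (by omega)
  obtain ⟨a, ha⟩ := (hf.bijective_of_nat_card_le hcard).2 ⟨z, hz⟩
  exact ⟨a, congrArg Subtype.val ha, fun b hb =>
    hf (Subtype.ext (hb.trans (congrArg Subtype.val ha).symm))⟩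

end Counting

end Cfsg.Agent.TICent
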