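import Cfsg.Agent.Lib.TICent.Cfg

/-!
# Groups with the involution-centraliser configuration are `PSL₂(2ⁿ)`
-/

set_option autoImplicit false
set_option linter.style.haveILetI false
set_option linter.unusedSectionVars false

namespace Cfsg.Agent.TICent

open MulAction Subgroup CASimple

universe u v

variable {G : Type u} [Group G] [Finite G]

theorem pts (hc : Cfg G) {t : G} (ht : Invn t) : Pts G (G ⧸ N t) := by
  have key : ∀ g : G, stabilizer G (g : G ⧸ N t) = N (g * t * g⁻¹) := fun g => by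
    ext h
    rw [mem_stabilizer_iff, hc.mem_N_iff (ht.conj g), ← conj_mem_C g⁻¹]
    rw [show g⁻¹ * (g * t * g⁻¹) * g⁻¹⁻¹ = t by group]
    rw [show g⁻¹ * (h * (g * t * g⁻¹) * h⁻¹) * g⁻¹⁻¹ =
      (g⁻¹ * h * g) * t * (g⁻¹ * h * g)⁻¹ by group, ← hc.mem_N_iff ht]
    rw [MulAction.Quotient.smul_mk, QuotientGroup.eq, ← inv_mem_iff,
      show ((h • g)⁻¹ * g)⁻¹ = g⁻¹ * h * g by rw [smul_eq_mul]; group]
  refine ⟨inferInstance, fun x => ?_, fun x y h => ?_⟩
  · induction x using QuotientGroup.induction_on with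
    | _ g => exact ⟨_, ht.conj g, key g⟩
  · induction x using QuotientGroup.induction_on with
    | _ g =>
      induction y using QuotientGroup.induction_on with
      | _ g' =>
        rw [key, key] at h
        have h1 : g' * t * g'⁻¹ ∈ C (g * t * g⁻¹) :=
          hc.mem_C_of_sq (ht.conj g) (h.symm ▸ le_normalizer (self_mem_C _)) (ht.conj g').2
        rw [← conj_mem_C g⁻¹] at h1
        rw [show g⁻¹ * (g * t * g⁻¹) * g⁻¹⁻¹ = t by group,
          show g⁻¹ * (g' * t * g'⁻¹) * g⁻¹⁻¹ = (g⁻¹ * g') * t * (g⁻¹ * g')⁻¹ by group,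
          ← hc.mem_N_iff ht] at h1
        exact QuotientGroup.eq.2 h1

theorem exists_ne_base (hc : Cfg G) {t : G} (ht : Invn t) (x : G ⧸ N t) :
    ∃ y : G ⧸ N t, x ≠ y := by
  by_contra hcon
  push Not at hcon
  refine hc.N_ne_top ht ((eq_top_iff' _).2 fun g => ?_)
  have := QuotientGroup.eq.1 ((hcon ((1 : G) : G ⧸ N t)).symm.trans (hcon (g : G ⧸ N t)))
  simpa using this

theorem card_omega (hc : Cfg G) {t : G} (ht : Invn t) :
    Nat.card (G ⧸ N t) = Nat.card (C t) + 1 := by
  classical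
  haveI : Fintype (G ⧸ N t) := Fintype.ofFinite _
  set x : G ⧸ N t := ((1 : G) : G ⧸ N t)
  have hx : stabilizer G x = N t := stabilizer_quotient _
  obtain ⟨y, hxy⟩ := exists_ne_base hc ht x
  have hreg := regular hc (pts hc ht) ht hx
  have e : Nat.card (C t) = Nat.card {w : G ⧸ N t // w ≠ x} := by
    refine Nat.card_congr (Equiv.ofBijective
      (fun a : C t => (⟨(a : G) • y, fun h => hxy.symm (smul_left_cancel (a : G) (h.trans
        (mem_stabilizer_iff.1 (hx.symm ▸ le_normalizer a.2)).symm))⟩ : {w : G ⧸ N t // w ≠ x}))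
      ⟨?_, ?_⟩)
    · intro a b h
      obtain ⟨c, -, hu⟩ := hreg y ((b : G) • y) hxy.symm (fun h' => hxy.symm (smul_left_cancel (b : G)
        (h'.trans (mem_stabilizer_iff.1 (hx.symm ▸ le_normalizer b.2)).symm)))
      exact (hu a (congrArg Subtype.val h)).trans (hu b rfl).symm
    · intro w
      obtain ⟨c, hc', -⟩ := hreg y w hxy.symm w.2
      exact ⟨c, Subtype.ext hc'⟩
  rw [e, Nat.card_eq_fintype_card, Nat.card_eq_fintype_card, Fintype.card_subtype_compl,
    Fintype.card_subtype_eq]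
  have : 0 < Fintype.card (G ⧸ N t) := Fintype.card_pos_iff.2 ⟨x⟩
  omega

theorem count (hc : Cfg G) {t : G} (ht : Invn t) :
    Nat.card G = Nat.card (C t) * Nat.card {w : G // Invn w} ∧
      Nat.card {w : G // Invn w} =
        Nat.card {w : G // Invn w ∧ w ∈ C t} * (Nat.card (C t) + 1) := by
  refine ⟨?_, ?_⟩
  · rw [hc.card_invn ht, (C t).card_mul_index]
  · rw [card_invn_eq hc (pts hc ht) (x := ((1 : G) : G ⧸ N t)) ht (stabilizer_quotient _),
      ← hc.card_J ht, card_omega hc ht]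

/-- Descent to a normal subgroup with an involution. -/
theorem simple (hc : Cfg G) (hev : ∀ M : Subgroup G, M.Normal → M ≠ ⊥ → ∃ t ∈ M, Invn t) :
    ∀ M : Subgroup G, M.Normal → M = ⊥ ∨ M = ⊤ := by
  intro M hM
  refine or_iff_not_imp_left.2 fun hM1 => ?_
  obtain ⟨t, htM, ht⟩ := hev M hM hM1
  have hall : ∀ w : G, Invn w → w ∈ M := fun w hw => by
    obtain ⟨g, rfl⟩ := isConj_iff.1 (hc.isConj_invn ht hw)
    exact hM.conj_mem t htM g
  have hI : ∀ {w : M}, Invn w → Invn (w : G) := fun {w} hw =>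
    ⟨fun e => hw.1 (Subtype.ext e), congrArg Subtype.val hw.2⟩
  have hI' : ∀ {w : G} (hw : Invn w), Invn (⟨w, hall w hw⟩ : M) := fun {w} hw =>
    ⟨fun e => hw.1 (congrArg Subtype.val e), Subtype.ext hw.2⟩
  have hCm : ∀ {s a : M}, a ∈ C s ↔ (a : G) ∈ C (s : G) := fun {s a} => by
    rw [mem_C, mem_C, Subtype.ext_iff]; rfl
  have hcM : Cfg M := by
    refine ⟨fun {s} hs {g a} ha ha1 hga => ?_, fun {s} hs {a} ha ha1 b hb => ?_,
      fun {s} hs => ?_, fun {s} hs => ?_⟩
    · have hg : (g : G) ∈ N (s : G) :=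
        hc.ti (hI hs) (hCm.1 ha) (fun e => ha1 (Subtype.ext e)) (hCm.1 hga)
      exact mem_normalizer_iff.2 fun b => by
        show b ∈ C s ↔ g * b * g⁻¹ ∈ C s
        rw [hCm, hCm]
        exact mem_normalizer_iff.1 hg b
    · exact hCm.2 (hc.cent (hI hs) (hCm.1 ha) (fun e => ha1 (Subtype.ext e)) (hCm.1 hb))
    · obtain ⟨w, hw, hwC, hne⟩ := hc.comm_pair (hI hs)
      exact ⟨⟨w, hall w hw⟩, hI' hw, hCm.2 hwC, fun e => hne (congrArg Subtype.val e)⟩
    · obtain ⟨w, hw, hwC⟩ := hc.noncomm (hI hs)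
      exact ⟨⟨w, hall w hw⟩, hI' hw, fun e => hwC (hCm.1 e)⟩
  obtain ⟨g1, g2⟩ := count hc ht
  obtain ⟨m1, m2⟩ := count hcM (hI' ht)
  have eI : Nat.card {w : M // Invn w} = Nat.card {w : G // Invn w} :=
    Nat.card_congr
      { toFun := fun w => ⟨(w.1 : G), hI w.2⟩
        invFun := fun w => ⟨⟨w.1, hall w.1 w.2⟩, hI' w.2⟩
        left_inv := fun _ => rfl
        right_inv := fun _ => rfl }
  have eJ : Nat.card {w : M // Invn w ∧ w ∈ C (⟨t, htM⟩ : M)} =
      Nat.card {w : G // Invn w ∧ w ∈ C t} :=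
    Nat.card_congr
      { toFun := fun w => ⟨(w.1 : G), hI w.2.1, hCm.1 w.2.2⟩
        invFun := fun w => ⟨⟨w.1, hall w.1 w.2.1⟩, hI' w.2.1, hCm.2 w.2.2⟩
        left_inv := fun _ => rfl
        right_inv := fun _ => rfl }
  have hJ : 0 < Nat.card {w : G // Invn w ∧ w ∈ C t} := by
    haveI : Nonempty {w : G // Invn w ∧ w ∈ C t} := ⟨⟨t, ht, self_mem_C t⟩⟩
    exact Nat.card_pos
  rw [eI] at m1 m2
  rw [eJ, g2] at m2
  have hCeq := Nat.eq_of_mul_eq_mul_left hJ m2
  exact (card_eq_iff_eq_top M).1 (by rw [m1, g1]; congr 1; omega)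

/-- The classification. -/
theorem classify (hc : Cfg G) (hev : ∀ M : Subgroup G, M.Normal → M ≠ ⊥ → ∃ t ∈ M, Invn t)
    {t : G} (ht : Invn t) (hnormal : ∀ g ∈ N t, ∀ a ∈ C t, a ≠ 1 →
      ∀ b ∈ C a, g * b * g⁻¹ ∈ C a) :
    ∃ f : ℕ, 2 ≤ f ∧ Nonempty
      (G ≃* Matrix.ProjectiveSpecialLinearGroup (Fin 2) (GaloisField 2 f)) := by
  classical
  haveI : IsSimpleGroup G := by
    haveI : Nontrivial G := ⟨t, 1, ht.1⟩
    exact ⟨simple hc hev⟩
  set Ω := G ⧸ N t
  have P := pts hc ht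
  haveI : Fintype Ω := Fintype.ofFinite Ω
  haveI := P.trans
  set x : Ω := ((1 : G) : G ⧸ N t) with hxdef
  have hx : stabilizer G x = N t := stabilizer_quotient _
  obtain ⟨y, hxy⟩ := exists_ne_base hc ht x
  have hreg := regular hc P ht hx
  have htrans : IsMultiplyPretransitive G Ω 2 := by
    refine is_two_pretransitive_iff.2 ?_
    intro a b c d hab hcd
    obtain ⟨g, hg⟩ := exists_smul_eq G a c
    obtain ⟨r, hr, hc'⟩ := P.exists_inv c
    have hgb : g • b ≠ c := fun h => hab (smul_left_cancel g (hg.trans h.symm))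
    obtain ⟨⟨v, hv⟩, hvd, -⟩ := regular hc P hr hc' (g • b) d hgb hcd.symm
    refine ⟨v * g, ?_, ?_⟩
    · rw [mul_smul, hg]
      exact mem_stabilizer_iff.1 (hc'.symm ▸ le_normalizer hv)
    · rw [mul_smul]; exact hvd
  have hfaith : FaithfulSMul G Ω := ⟨fun {g g'} h => by
    have hker : g'⁻¹ * g ∈ (MulAction.toPermHom G Ω).ker :=
      Equiv.ext fun p => by
        show (g'⁻¹ * g) • p = p
        rw [mul_smul, h p, inv_smul_smul]
    rcases IsSimpleGroup.eq_bot_or_eq_top_of_normal (MulAction.toPermHom G Ω).ker inferInstance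
      with e | e
    · rw [e, mem_bot] at hker
      exact (inv_mul_eq_one.1 hker).symm
    · exfalso
      refine hc.N_ne_top ht ((eq_top_iff' _).2 fun g₀ => ?_)
      have h1 : (MulAction.toPermHom G Ω) g₀ = 1 := MonoidHom.mem_ker.1 (e ▸ mem_top g₀)
      have h2 : g₀ • x = x := Equiv.congr_fun h1 x
      rw [← hx, mem_stabilizer_iff]
      exact h2⟩
  obtain ⟨u, -, -, -, hcard, -⟩ := pair hc P hxy ht hx
  have h2 := hc.two_le_relIndex ht
  have hZ : Cfsg.IsZassenhausGroup G Ω := by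
    refine ⟨hfaith, htrans, fun g a b c hab hbc hac ha hb hc' => ?_, ?_, fun M hM hMt => ?_⟩
    · exact no_third hc P hab (Ne.symm hac) (Ne.symm hbc) ha hb hc'
    · haveI : Nontrivial (stabilizer G x ⊓ stabilizer G y : Subgroup G) :=
        Finite.one_lt_card_iff_nontrivial.1 (by omega)
      obtain ⟨d, hd⟩ := exists_ne (1 : (stabilizer G x ⊓ stabilizer G y : Subgroup G))
      exact ⟨d, fun h => hd (Subtype.ext h), x, y, hxy, d.2.1, d.2.2⟩
    · rcases IsSimpleGroup.eq_bot_or_eq_top_of_normal M hM with e | e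
      · exfalso
        subst e
        obtain ⟨m, hm⟩ := hMt.exists_smul_eq x y
        obtain ⟨m, hm'⟩ := m
        rw [mem_bot] at hm'
        subst hm'
        exact hxy (by rw [← hm]; exact (one_smul G x).symm)
      · refine ⟨x, fun h => ht.1 ?_⟩
        have hsx : t ∈ stabilizer G x := by rw [hx]; exact le_normalizer (self_mem_C t)
        have h1 : (⟨t, e ▸ mem_top t⟩ : M) ∈ stabilizer M x :=
          mem_stabilizer_iff.2 (mem_stabilizer_iff.1 hsx :)
        exact congrArg Subtype.val ((Subgroup.eq_bot_iff_forall _).1 h _ h1)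
  have hle : C t ≤ stabilizer G x := hx.symm ▸ le_normalizer
  have hnorm : ∀ g ∈ stabilizer G x, ∀ a ∈ C t, g * a * g⁻¹ ∈ C t := fun g hg a ha =>
    conj_mem_of_mem_N (hx ▸ hg) ha
  have D := ZassSuz.ker_of_reg hZ hxy hle hnorm hreg
  have hab : ∀ a ∈ C t, ∀ b ∈ C t, a * b = b * a := by
    by_contra hcon
    push Not at hcon
    obtain ⟨n, -, hn1, hU, htwo, -⟩ := ZassSuz.structure_nonabelian D hcon
    haveI : Fintype G := Fintype.ofFinite G
    have S := ZassSuz.Suz.of_ker D hcon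
    obtain ⟨a, ha, b, hb, hne⟩ := hcon
    set q := Nat.card (Zass.two (G := G) x y) + 1 with hq
    have hV : Nat.card S.V = q := S.card_V
    have hC : Nat.card (C t) = q ^ 2 := by
      rw [hU, hq, htwo, Nat.sub_add_cancel (Nat.one_le_two_pow), ← pow_mul, mul_comm]
    have haV : (⟨a, ha⟩ : C t) ∉ S.V := fun h =>
      hne (congrArg Subtype.val (Subgroup.mem_center_iff.1 (S.V_central h) ⟨b, hb⟩)).symm
    -- the centraliser of `a` inside the kernel
    set A : Subgroup (C t) := Subgroup.centralizer {(⟨a, ha⟩ : C t)} with hA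
    have hVA : S.V ≤ A := fun v hv => by
      rw [hA, mem_centralizer_singleton_iff]
      exact (Subgroup.mem_center_iff.1 (S.V_central hv) _).symm
    have hidx : S.V.index = q := by
      have h' := S.V.card_mul_index
      rw [hV, hC, sq] at h'
      exact Nat.eq_of_mul_eq_mul_left (by omega) h'
    haveI : S.V.Normal := by
      rw [← S.center_eq]; infer_instance
    have hmemA : ∀ k : Zass.two (G := G) x y, S.act k ⟨a, ha⟩ ∈ A := fun k => by
      have hk : (k : G) ∈ N t := by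
        exact hx.le (mem_stabilizer_iff.2 (Zass.mem_two.1 k.2).1)
      have ha1 : a ≠ 1 := fun e => hne (by rw [e]; group)
      rw [hA, mem_centralizer_singleton_iff]
      exact Subtype.ext (mem_C.1 (hnormal k hk a ha ha1 a (self_mem_C a)))
    -- the translates cover all nontrivial cosets
    let f : Option (Zass.two (G := G) x y) → C t ⧸ S.V := fun o =>
      o.elim ((1 : C t) : C t ⧸ S.V) fun k => (S.act k ⟨a, ha⟩ : C t ⧸ S.V)
    have hf : Function.Injective f := by
      have hne1 : ∀ k, (S.act k ⟨a, ha⟩ : C t ⧸ S.V) ≠ ((1 : C t) : C t ⧸ S.V) := fun k h => by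
        rw [eq_comm, QuotientGroup.eq, inv_one, one_mul] at h
        refine haV ?_
        have := S.act_mem k⁻¹ h
        rwa [map_inv, MulAut.inv_apply_self] at this
      rintro (_ | k) (_ | l) h
      · rfl
      · exact absurd h.symm (hne1 l)
      · exact absurd h (hne1 k)
      · simp only [f, Option.elim_some, QuotientGroup.eq] at h
        congr 1
        by_contra hkl
        refine haV (S.act_free_mod (k := k⁻¹ * l) (fun e => hkl (inv_mul_eq_one.1 e)) ?_)
        have := S.act_mem k⁻¹ h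
        have e1 : S.act k⁻¹ (S.act k ⟨a, ha⟩) = ⟨a, ha⟩ := by
          rw [← MulAut.mul_apply, ← map_mul, inv_mul_cancel, map_one]; rfl
        have e2 : S.act k⁻¹ (S.act l ⟨a, ha⟩) = S.act (k⁻¹ * l) ⟨a, ha⟩ := by
          rw [← MulAut.mul_apply, ← map_mul]
        rwa [(S.act k⁻¹).map_mul, (S.act k⁻¹).map_inv, e1, e2] at this
    have hbij : Function.Bijective f := hf.bijective_of_nat_card_le (by
      rw [Finite.card_option, ← hq, ← hidx]; rfl)
    have hb' : (⟨b, hb⟩ : C t) ∈ A := by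
      obtain ⟨o, ho⟩ := hbij.2 ((⟨b, hb⟩ : C t) : C t ⧸ S.V)
      rcases o with _ | k
      · simp only [f, Option.elim_none, QuotientGroup.eq, inv_one, one_mul] at ho
        exact hVA ho
      · simp only [f, Option.elim_some, QuotientGroup.eq] at ho
        have := mul_mem (hmemA k) (hVA ho)
        rwa [mul_inv_cancel_left] at this
    rw [hA, mem_centralizer_singleton_iff] at hb'
    exact hne (congrArg Subtype.val hb').symm
  have A : ZassAb.Ab x y (C t) := ⟨hZ, hxy, hle, hnorm, hab, hreg⟩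
  have hev2 : 2 ∣ Nat.card (C t) := by
    have h1 : orderOf t = 2 := orderOf_eq_prime (by rw [pow_two]; exact ht.2) ht.1
    rw [← h1]
    exact Subgroup.orderOf_dvd_natCard _ (self_mem_C t)
  have heq : Nat.card (Zass.two (G := G) x y) = Nat.card (C t) - 1 := by
    rcases A.dichotomy with h | ⟨h, -⟩
    · exact h
    · exfalso; have := Nat.card_pos (α := C t); omega
  obtain ⟨h3, hsh⟩ := A.sharply heq
  obtain ⟨p, f, hp, hf, hpf⟩ := (isPrimePow_nat_iff _).1 D.isPrimePow
  have hp2 : p = 2 := by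
    rw [← hpf] at hev2
    exact ((Nat.prime_dvd_prime_iff_eq Nat.prime_two hp).1 (Nat.prime_two.dvd_of_dvd_pow hev2)).symm
  subst hp2
  have hf2 : 2 ≤ f := by
    have h' : Nat.card (stabilizer G x ⊓ stabilizer G y : Subgroup G) = Nat.card (C t) - 1 := heq
    rw [hcard, ← hpf] at h'
    by_contra hlt
    have : f = 1 := by omega
    subst this
    omega
  have hcardΩ : Nat.card Ω = 2 ^ f + 1 := by rw [hpf, Nat.card_eq_fintype_card, A.card_H]
  obtain ⟨e1⟩ := SharpEven.equiv_pgl hf hcardΩ (SharpEven.sharp3_of_pretransitive h3 hsh)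
  haveI : Fintype (GaloisField 2 f) := Fintype.ofFinite _
  obtain ⟨e2⟩ := SharpEven.psl_equiv_pgl (F := GaloisField 2 f) (f := f)
    (by rw [← Nat.card_eq_fintype_card, GaloisField.card 2 f (by omega)])
  exact ⟨f, hf2, ⟨e1.trans e2.symm⟩⟩

end Cfsg.Agent.TICent
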