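import Cfsg.Agent.Lib.TICent.Local
import Cfsg.Agent.Lib.FGStruct.FrobeniusData
import Cfsg.Agent.Lib.Solvable.FixedPointFree
import Mathlib.GroupTheory.SpecificGroups.Quaternion
import Mathlib.GroupTheory.SpecificGroups.ZGroup
import Mathlib.GroupTheory.NoncommCoprod

/-!
# Frobenius complements in groups with trivial-intersection centralisers
-/

set_option autoImplicit false
set_option linter.style.haveILetI false
set_option linter.unusedSectionVars false

namespace Cfsg.Agent.TICent

open Subgroup CASimple FrobData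
open scoped Pointwise

universe u

variable {G : Type u} [Group G] [Finite G]

theorem pair_commute {K H : Subgroup G} (h : FData K H) {a f : G} (ha : a ∈ H) (hf : f ∈ H)
    {q r : ℕ} (hq : q.Prime) (hr : r.Prime) (hao : orderOf a = q) (hfo : orderOf f = r)
    (hn : f * a * f⁻¹ ∈ zpowers a) : Commute f a := by
  haveI := h.normal
  haveI := h.isNilpotent
  by_cases hfa : f ∈ zpowers a
  · obtain ⟨k, rfl⟩ := mem_zpowers_iff.1 hfa
    exact Commute.zpow_self a k
  haveI : Nontrivial K := (nontrivial_iff_ne_bot K).2 h.kne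
  set V : Subgroup G := (Subgroup.center K).map K.subtype with hV
  haveI : IsMulCommutative V := by
    refine .of_setLike_mul_comm ?_
    rintro _ ⟨x, hx, rfl⟩ _ ⟨y, hy, rfl⟩
    rw [← map_mul, ← map_mul]
    exact congrArg _ (Subgroup.mem_center_iff.1 hy x)
  have hV1 : V ≠ ⊥ := by
    rw [hV, Ne, map_eq_bot_iff_of_injective _ K.subtype_injective]
    exact Group.IsNilpotent.center_ne_bot K
  set A := zpowers a ⊔ zpowers f with hA
  have hAH : A ≤ H := sup_le (zpowers_le.2 ha) (zpowers_le.2 hf)
  have hnorm : zpowers f ≤ normalizer (zpowers a : Set G) := by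
    refine zpowers_le.2 (mem_normalizer_iff.2 fun x => ?_)
    have hfwd : ∀ x ∈ zpowers a, f * x * f⁻¹ ∈ zpowers a := by
      intro x hx
      obtain ⟨k, rfl⟩ := mem_zpowers_iff.1 hx
      rw [← conj_zpow]
      exact zpow_mem hn k
    refine ⟨hfwd x, fun hx => ?_⟩
    obtain ⟨y, hy⟩ : ∃ y : zpowers a, (⟨f * (y : G) * f⁻¹, hfwd y y.2⟩ : zpowers a) = ⟨_, hx⟩ :=
      (Finite.injective_iff_surjective.1 fun y z e => Subtype.ext
        (mul_left_cancel (mul_right_cancel (congrArg Subtype.val e :)))) ⟨_, hx⟩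
    have hy' : (y : G) = x := mul_left_cancel (mul_right_cancel (congrArg Subtype.val hy :))
    exact hy' ▸ y.2
  have hcard : Nat.card A = q * r := by
    have hbij : Function.Bijective fun p : zpowers a × zpowers f =>
        (⟨(p.1 : G) * p.2, mul_mem (mem_sup_left p.1.2) (mem_sup_right p.2.2)⟩ : A) := by
      refine ⟨?_, ?_⟩
      · rintro ⟨⟨x, hx⟩, ⟨y, hy⟩⟩ ⟨⟨x', hx'⟩, ⟨y', hy'⟩⟩ e
        have e' : x * y = x' * y' := congrArg Subtype.val e
        have hmem : y * y'⁻¹ ∈ zpowers a := by
          have : y * y'⁻¹ = x⁻¹ * x' := by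
            rw [eq_inv_mul_iff_mul_eq, ← mul_assoc, e', mul_inv_cancel_right]
          rw [this]; exact mul_mem (inv_mem hx) hx'
        have h1 : y * y'⁻¹ = 1 := by
          by_contra hne
          refine hfa ?_
          haveI := Fact.mk hr
          have : zpowers (y * y'⁻¹) = zpowers f := by
            refine Subgroup.eq_of_le_of_card_ge (zpowers_le.2 (mul_mem hy (inv_mem hy'))) ?_
            rw [Nat.card_zpowers, Nat.card_zpowers, hfo]
            exact (orderOf_eq_prime (orderOf_dvd_iff_pow_eq_one.1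
              (hfo ▸ orderOf_dvd_of_mem_zpowers (mul_mem hy (inv_mem hy')))) hne).ge
          exact zpowers_le.2 hmem (this ▸ mem_zpowers f)
        have hyy : y = y' := mul_inv_eq_one.1 h1
        subst hyy
        have hxx : x = x' := mul_right_cancel e'
        subst hxx
        rfl
      · rintro ⟨z, hz⟩
        have hz' : z ∈ (zpowers a : Set G) * (zpowers f : Set G) := by
          rw [← coe_mul_of_right_le_normalizer_left (zpowers a) (zpowers f) hnorm]
          exact hz
        obtain ⟨x, hx, y, hy, rfl⟩ := hz'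
        exact ⟨(⟨x, hx⟩, ⟨y, hy⟩), rfl⟩
    rw [← Nat.card_eq_of_bijective _ hbij, Nat.card_prod, Nat.card_zpowers, Nat.card_zpowers,
      hao, hfo]
  haveI : IsCyclic A := by
    refine FpfStruct.pq_cyclic hV1 ?_ (fun x hx hx1 => ?_) hq hr hcard
    · haveI : V.Normal := by rw [hV]; infer_instance
      exact le_normalizer_of_normal
    · rw [eq_bot_iff]
      rintro v ⟨⟨k, -, rfl⟩, hv⟩
      rw [mem_bot]
      exact h.fpf (hAH hx) hx1 k.2 (mem_centralizer_singleton_iff.1 hv).symm
  haveI : IsMulCommutative A := IsCyclic.isMulCommutative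
  exact congrArg Subtype.val (mul_comm' (⟨f, mem_sup_right (mem_zpowers f)⟩ : A)
    ⟨a, mem_sup_left (mem_zpowers a)⟩)

/-- A Frobenius complement contains a central element of prime order. -/
theorem exists_central (hTI : ∀ x : G, Cfsg.IsTISubset (C x : Set G)) {K H : Subgroup G}
    (h : FData K H) : ∃ a ∈ H, a ≠ 1 ∧ H ≤ C a := by
  have hab := h.abCyclic
  haveI := h.normal
  haveI : Fact (Nat.Prime 2) := ⟨Nat.prime_two⟩
  by_cases h2 : 2 ∣ Nat.card H
  · obtain ⟨⟨t, ht⟩, hto⟩ := exists_prime_orderOf_dvd_card' (G := H) 2 h2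
    rw [Subgroup.orderOf_mk] at hto
    have hinv : ∀ s ∈ H, orderOf s = 2 → ∀ k ∈ K, s * k * s⁻¹ = k⁻¹ := by
      intro s hs hso k hk
      have hs2 : s * s = 1 := by rw [← pow_two, ← hso, pow_orderOf_eq_one]
      let φ : K →* K := (MulAut.conjNormal s).toMonoidHom
      have hinvol : Function.Involutive φ := fun y => by
        show MulAut.conjNormal s (MulAut.conjNormal s y) = y
        rw [← MulAut.mul_apply, ← map_mul, hs2, map_one]; rfl
      have hfpf : MonoidHom.FixedPointFree φ := fun y hy => by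
        have h1 : s * (y : G) * s⁻¹ = y := congrArg Subtype.val hy
        refine Subtype.ext (h.fpf hs ?_ y.2 (mul_inv_eq_iff_eq_mul.1 h1))
        intro e; rw [e, orderOf_one] at hso; omega
      exact congrArg Subtype.val (congrFun
        (MonoidHom.FixedPointFree.coe_eq_inv_of_involutive hfpf hinvol) ⟨k, hk⟩)
    have ht1 : t ≠ 1 := fun e => by rw [e, orderOf_one] at hto; omega
    refine ⟨t, ht, ht1, fun g hg => mem_C.2 ?_⟩
    set s := g * t * g⁻¹ with hs
    have hsH : s ∈ H := mul_mem (mul_mem hg ht) (inv_mem hg)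
    have hso : orderOf s = 2 := by rw [hs, ← MulAut.conj_apply, MulEquiv.orderOf_eq, hto]
    obtain ⟨⟨k, hk⟩, hk1⟩ := Subgroup.ne_bot_iff_exists_ne_one.1 h.kne
    have hst : s = t := by
      by_contra hne
      refine hk1 (Subtype.ext (h.fpf (mul_mem (inv_mem hsH) ht) ?_ hk ?_))
      · intro e; exact hne (inv_mul_eq_one.1 e)
      · have e1 := hinv t ht hto k hk
        have e2 := hinv s hsH hso k hk
        rw [← mul_inv_eq_iff_eq_mul]
        calc s⁻¹ * t * k * (s⁻¹ * t)⁻¹ = s⁻¹ * (t * k * t⁻¹) * s := by group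
          _ = s⁻¹ * (s * k * s⁻¹) * s := by rw [e1, e2]
          _ = k := by group
    exact mul_inv_eq_iff_eq_mul.1 hst
  have hCN : Cfsg.IsCNGroup H := fun x hx => by
    haveI := nilpotent_C hTI (x := (x : G)) fun e => hx (Subtype.ext e)
    let f : Subgroup.centralizer ({x} : Set H) →* C (x : G) :=
      { toFun := fun c => ⟨((c : H) : G), mem_C.2 (congrArg Subtype.val
          (mem_centralizer_singleton_iff.1 c.2))⟩
        map_one' := rfl
        map_mul' := fun _ _ => rfl }
    refine Subgroup.isNilpotent_of_ker_le_center f ?_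
    rw [(MonoidHom.ker_eq_bot_iff f).mpr fun a b h =>
      Subtype.ext (Subtype.ext (congrArg Subtype.val h :))]
    exact bot_le
  have hsol : Group.IsSolvable H :=
    S0183.result (Nat.odd_iff.2 (Nat.two_dvd_ne_zero.1 h2)) hCN
  obtain ⟨n, hn⟩ := (Group.isSolvable_def H).1 hsol
  -- a nontrivial abelian normal subgroup
  obtain ⟨A, hAn, hAc, hA1⟩ : ∃ A : Subgroup H, A.Normal ∧ IsMulCommutative A ∧ A ≠ ⊥ := by
    by_contra hcon
    push Not at hcon
    have key : ∀ k, derivedSeries H k = ⊥ → False := by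
      intro k
      induction k with
      | zero =>
        intro e
        rw [derivedSeries_zero] at e
        exact h.hne (eq_bot_iff.2 fun x hx => by
          have : (⟨x, hx⟩ : H) ∈ (⊤ : Subgroup H) := mem_top _
          rw [e, mem_bot] at this
          exact mem_bot.2 (congrArg Subtype.val this))
      | succ k ih =>
        intro e
        refine ih (hcon _ inferInstance ?_)
        rw [derivedSeries_succ, commutator_eq_bot_iff_le_centralizer] at e
        exact .of_setLike_mul_comm fun a ha b hb => (mem_centralizer_iff.1 (e ha) b hb).symm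
    exact key n hn
  haveI := hAn
  haveI : IsCyclic A := hab A hAc
  obtain ⟨q, hq, hqd⟩ := Nat.exists_prime_and_dvd (fun e => hA1 (Subgroup.card_eq_one.1 e))
  haveI := Fact.mk hq
  obtain ⟨⟨⟨a, ha⟩, haA⟩, hao⟩ := exists_prime_orderOf_dvd_card' (G := A) q hqd
  rw [Subgroup.orderOf_mk, Subgroup.orderOf_mk] at hao
  have ha1 : a ≠ 1 := fun e => hq.ne_one (by rw [← hao, e, orderOf_one])
  have hnormA : ∀ g ∈ H, g * a * g⁻¹ ∈ zpowers a := by
    intro g hg
    have hmem : (⟨g, hg⟩ : H) * ⟨a, ha⟩ * ⟨g, hg⟩⁻¹ ∈ A := hAn.conj_mem _ haA _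
    have hc : Commute (⟨a, ha⟩ : H) (⟨g, hg⟩ * ⟨a, ha⟩ * ⟨g, hg⟩⁻¹) :=
      congrArg Subtype.val (mul_comm' (⟨_, haA⟩ : A) ⟨_, hmem⟩)
    have := AbCyc.mem_zpowers_of_commute hab hc hq
      (by rw [Subgroup.orderOf_mk, hao])
      (by rw [← MulAut.conj_apply, MulEquiv.orderOf_eq, Subgroup.orderOf_mk, hao])
    obtain ⟨k, hk⟩ := mem_zpowers_iff.1 this
    exact ⟨k, congrArg Subtype.val hk⟩
  refine ⟨a, ha, ha1, le_of_prime_pow fun e he r m hr hm => ?_⟩
  haveI := Fact.mk hr
  rcases m with _ | m
  · rw [pow_zero, orderOf_eq_one_iff] at hm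
    rw [hm]; exact one_mem _
  have he1 : e ≠ 1 := fun h1 => by
    rw [h1, orderOf_one] at hm
    exact (Nat.one_lt_pow (Nat.succ_ne_zero m) hr.one_lt).ne hm
  rcases eq_or_ne r q with rfl | hrq
  · -- same prime: Fermat
    have hconj := hnormA e he
    obtain ⟨i, hi⟩ := mem_powers_iff_mem_zpowers.2 hconj
    have h1 := AbCyc.exp_pow_eq_one (a := a) (g := e) (i := i) (m := r ^ (m + 1)) hao hi.symm
      (by rw [← hm, pow_orderOf_eq_one, one_mul, mul_one])
    rw [ZMod.pow_card_pow] at h1
    have hi1 : e * a * e⁻¹ = a := by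
      rw [← hi, ← pow_one a]
      show (a ^ 1) ^ i = a ^ 1
      rw [← pow_mul, pow_inj_mod, hao, ← ZMod.natCast_eq_natCast_iff']
      simpa using h1
    exact mem_C.2 (mul_inv_eq_iff_eq_mul.1 hi1)
  · set f := e ^ r ^ m with hfdef
    have hfo : orderOf f = r := by
      rw [hfdef, orderOf_pow' e (pow_ne_zero _ hr.ne_zero), hm, Nat.gcd_eq_right
        (pow_dvd_pow r (Nat.le_succ m)), Nat.pow_div (Nat.le_succ m) hr.pos]
      simp
    have hf1 : f ≠ 1 := fun h1 => hr.ne_one (by rw [← hfo, h1, orderOf_one])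
    have hfa : Commute f a :=
      pair_commute h ha (pow_mem he _) hq hr hao hfo (hnormA f (pow_mem he _))
    refine mem_C.2 (CN.commute_of_coprime (nilpotent_C hTI hf1) (x := e) (y := a) ?_ ?_ ?_).eq
    · exact mem_C.2 (Commute.self_pow e _).eq
    · exact mem_C.2 hfa.symm.eq
    · rw [hm, hao]
      exact ((Nat.coprime_primes hr hq).2 hrq).pow_left _

/-- The structure of a complement. -/
theorem complement_structure (hTI : ∀ x : G, Cfsg.IsTISubset (C x : Set G)) {H : Subgroup G}
    (hH : Cfsg.IsFrobeniusComplement H) :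
    IsCyclic H ∨ ∃ m : ℕ, Odd m ∧ Nonempty (H ≃* Multiplicative (ZMod m) × QuaternionGroup 2) := by
  classical
  obtain ⟨K, h⟩ := FrobData.exists_data hH
  obtain ⟨a, -, ha1, hHa⟩ := exists_central hTI h
  haveI := nilpotent_C hTI ha1
  haveI hnil : Group.IsNilpotent H := CN.nilpotent_of_le hHa inferInstance
  have hnorm : ∀ y g : H, Commute (g * y * g⁻¹) y := by
    intro y g
    rcases eq_or_ne y 1 with rfl | hy
    · exact Commute.one_right _
    have haC : ∀ g : H, a ∈ C (g : G) := fun g => mem_C.2 (mem_C.1 (hHa g.2)).symm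
    have hg : (g : G) ∈ N (y : G) := mem_N_of_meet hTI (haC y) ha1 (by
      rw [← mem_C.1 (haC g), mul_inv_cancel_right]; exact haC y)
    exact Subtype.ext (mem_C.1 (conj_mem_of_mem_N hg (self_mem_C (y : G))) :)
  have hab := h.abCyclic
  haveI : Fact (Nat.Prime 2) := ⟨Nat.prime_two⟩
  obtain ⟨S⟩ := (inferInstance : Nonempty (Sylow 2 H))
  have hcycle : ∀ (p : ℕ) [Fact p.Prime] (P : Sylow p H), p ≠ 2 → IsCyclic P := by
    intro p _ P hp
    rcases FpfStruct.cyclic_or_quaternion P.2 (hab.subgroup _) with hc | ⟨hp2, -⟩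
    · exact hc
    · exact absurd hp2 hp
  rcases FpfStruct.cyclic_or_quaternion S.2 (hab.subgroup (S : Subgroup H)) with hc | ⟨-, n, ⟨e⟩⟩
  · left
    haveI : IsZGroup H := by
      refine ⟨fun p hp P => ?_⟩
      haveI := Fact.mk hp
      by_cases hp2 : p = 2
      · subst hp2
        haveI := hc
        exact isCyclic_of_surjective (S.equiv P).toMonoidHom (S.equiv P).surjective
      · exact hcycle p P hp2
    infer_instance
  rcases n with _ | _ | n
  · left
    haveI : IsZGroup H := by
      refine ⟨fun p hp P => ?_⟩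
      haveI := Fact.mk hp
      by_cases hp2 : p = 2
      · subst hp2
        haveI : IsCyclic (QuaternionGroup (2 ^ 0)) :=
          isCyclic_of_orderOf_eq_card (QuaternionGroup.xa 0) (by
            rw [QuaternionGroup.orderOf_xa, Nat.card_eq_fintype_card, QuaternionGroup.card]; rfl)
        haveI : IsCyclic S := isCyclic_of_surjective e.symm.toMonoidHom e.symm.surjective
        exact isCyclic_of_surjective (S.equiv P).toMonoidHom (S.equiv P).surjective
      · exact hcycle p P hp2
    infer_instance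
  · -- the quaternion group of order eight
    right
    have h03 := (Group.isNilpotent_of_finite_tfae (G := H)).out 0 3
    haveI hSn : (S : Subgroup H).Normal := h03.mp hnil 2 ⟨Fact.out⟩ S
    obtain ⟨O, hO⟩ := Subgroup.exists_left_complement'_of_coprime S.card_coprime_index
    have hOodd : ¬ 2 ∣ Nat.card O := by
      rw [← hO.index_eq_card]
      exact S.not_dvd_index
    have hOc : IsCyclic O := by
      haveI : IsZGroup O := by
        refine ⟨fun p hp P => ?_⟩
        haveI := Fact.mk hp
        by_cases hp2 : p = 2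
        · subst hp2
          have hPbot : (P : Subgroup O) = ⊥ := by
            rw [← Subgroup.card_eq_one, P.card_eq_multiplicity,
              Nat.factorization_eq_zero_of_not_dvd hOodd, pow_zero]
          haveI : Subsingleton (P : Subgroup O) := by rw [hPbot]; infer_instance
          exact isCyclic_of_subsingleton
        · rcases FpfStruct.cyclic_or_quaternion P.2 ((hab.subgroup _).subgroup _) with hc | ⟨h2, -⟩
          · exact hc
          · exact absurd h2 hp2
      infer_instance
    have hcomm : ∀ (x : O) (y : (S : Subgroup H)), Commute (O.subtype x) ((S : Subgroup H).subtype y) := by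
      intro x y
      have hcop : Nat.Coprime (orderOf ((x : H) : G)) (orderOf ((y : H) : G)) := by
        obtain ⟨k, hk⟩ := IsPGroup.iff_orderOf.1 S.2 y
        simp only [Subgroup.orderOf_coe]
        rw [hk]
        refine Nat.Coprime.pow_right _ ?_
        rw [Nat.coprime_comm, Nat.prime_two.coprime_iff_not_dvd]
        exact fun hd => hOodd (hd.trans (orderOf_dvd_natCard x))
      exact Subtype.ext (CN.commute_of_coprime (nilpotent_C hTI ha1) (hHa (x : H).2) (hHa (y : H).2) hcop).eq
    let f : O × (S : Subgroup H) →* H :=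
      MonoidHom.noncommCoprod O.subtype (S : Subgroup H).subtype hcomm
    have hbij : Function.Bijective f := by
      have hf : (f : O × (S : Subgroup H) → H) = fun p => (p.1 : H) * p.2 := rfl
      rw [hf]
      exact hO
    refine ⟨Nat.card O, Nat.odd_iff.2 (Nat.two_dvd_ne_zero.1 hOodd),
      ⟨(MulEquiv.ofBijective f hbij).symm.trans
        (MulEquiv.prodCongr (zmodCyclicMulEquiv hOc).symm e)⟩⟩
  · -- larger quaternion groups are impossible
    exfalso
    set y := e.symm (QuaternionGroup.xa 0) with hy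
    set g := e.symm (QuaternionGroup.a 1) with hg
    have hc : Commute (g * y * g⁻¹) y := Subtype.ext (hnorm (y : H) (g : H)).eq
    have hc' := hc.map e.toMonoidHom
    simp only [map_mul, map_inv, MulEquiv.coe_toMonoidHom, hy, hg, MulEquiv.apply_symm_apply] at hc'
    rw [show (QuaternionGroup.a (1 : ZMod (2 * 2 ^ (n + 1 + 1))))⁻¹ = QuaternionGroup.a (-1) from rfl,
      QuaternionGroup.a_mul_xa, QuaternionGroup.xa_mul_a] at hc'
    have hc'' := hc'.eq
    rw [QuaternionGroup.xa_mul_xa, QuaternionGroup.xa_mul_xa, QuaternionGroup.a.injEq] at hc''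
    have h4 : ((4 : ℕ) : ZMod (2 * 2 ^ (n + 1 + 1))) = 0 := by
      push_cast
      linear_combination hc''
    rw [ZMod.natCast_eq_zero_iff] at h4
    have := Nat.le_of_dvd (by norm_num) h4
    have h' : 4 ≤ 2 ^ (n + 1 + 1) := by
      calc 4 = 2 ^ 2 := rfl
        _ ≤ _ := Nat.pow_le_pow_right (by norm_num) (by omega)
    omega

end Cfsg.Agent.TICent
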