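import Cfsg.Agent.Lib.TICent.Classify
import Cfsg.Agent.S0183
import Cfsg.Agent.Lib.CN.Basic
import Cfsg.Agent.Lib.CN.General
import Cfsg.Prelude.Def_OddOrderLocal
import Mathlib.GroupTheory.SchurZassenhaus

/-!
# Groups in which all element centralisers are trivial-intersection sets
-/

set_option autoImplicit false
set_option linter.style.haveILetI false
set_option linter.unusedSectionVars false

namespace Cfsg.Agent.TICent

open Subgroup CASimple

universe u

variable {G : Type u} [Group G]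

theorem mem_N_of_meet (hTI : ∀ x : G, Cfsg.IsTISubset (C x : Set G)) {x y g : G} (hy : y ∈ C x)
    (hy1 : y ≠ 1) (hg : g * y * g⁻¹ ∈ C x) : g ∈ N x := by
  by_contra h
  exact hy1 (hTI x g h y hy hg)

variable [Finite G]

/-- A subgroup containing all elements of prime power order of `A` contains `A`. -/
theorem le_of_prime_pow {A B : Subgroup G}
    (h : ∀ g ∈ A, ∀ r n : ℕ, r.Prime → orderOf g = r ^ n → g ∈ B) : A ≤ B := by
  have hidx : (B.subgroupOf A).index = 1 := by
    by_contra hne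
    obtain ⟨r, hr, hrd⟩ := Nat.exists_prime_and_dvd hne
    haveI := Fact.mk hr
    obtain ⟨P⟩ := (inferInstance : Nonempty (Sylow r A))
    have hle : (P : Subgroup A) ≤ B.subgroupOf A := fun x hx => by
      obtain ⟨n, hn⟩ := IsPGroup.iff_orderOf.1 P.2 ⟨x, hx⟩
      rw [Subgroup.orderOf_mk, ← Subgroup.orderOf_coe] at hn
      exact mem_subgroupOf.2 (h x x.2 r n hr hn)
    exact P.not_dvd_index (hrd.trans (index_dvd_of_le hle))
  exact subgroupOf_eq_top.1 (index_eq_one.1 hidx)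

/-- If all centralisers are normal the group is nilpotent. -/
theorem nilpotent_of_normal_centralizers {H : Type u} [Group H] [Finite H]
    (h : ∀ x g b : H, Commute b x → Commute (g * b * g⁻¹) x) : Group.IsNilpotent H := by
  refine ((Group.isNilpotent_of_finite_tfae (G := H)).out 0 3).mpr ?_
  intro p hp P
  suffices hall : ∀ x : H, (∃ n : ℕ, orderOf x = p ^ n) → x ∈ (P : Subgroup H) by
    refine ⟨fun x hx g => hall _ ?_⟩
    obtain ⟨n, hn⟩ := IsPGroup.iff_orderOf.1 P.2 ⟨x, hx⟩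
    refine ⟨n, ?_⟩
    rw [← MulAut.conj_apply, MulEquiv.orderOf_eq, ← hn, Subgroup.orderOf_mk]
  intro x hx
  obtain ⟨n, hn⟩ := hx
  set Nx := Subgroup.normalClosure ({x} : Set H) with hNx
  have hcomm : ∀ a ∈ Group.conjugatesOfSet ({x} : Set H),
      ∀ b ∈ Group.conjugatesOfSet ({x} : Set H), Commute a b := by
    intro a ha b hb
    obtain ⟨x', hx', ha'⟩ := Group.mem_conjugatesOfSet_iff.1 ha
    obtain ⟨x'', hx'', hb'⟩ := Group.mem_conjugatesOfSet_iff.1 hb
    rw [Set.mem_singleton_iff.1 hx'] at ha'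
    rw [Set.mem_singleton_iff.1 hx''] at hb'
    obtain ⟨c, rfl⟩ := isConj_iff.1 ha'
    obtain ⟨d, rfl⟩ := isConj_iff.1 hb'
    have := h x (d⁻¹ * c) x (Commute.refl x)
    have h' := this.map (MulAut.conj d).toMonoidHom
    simpa [mul_assoc] using h'
  have hexp : ∀ w ∈ Nx, w ^ p ^ n = 1 ∧ ∀ b ∈ Group.conjugatesOfSet ({x} : Set H), Commute w b := by
    intro w hw
    rw [hNx, Subgroup.normalClosure] at hw
    induction hw using Subgroup.closure_induction with
    | mem a ha =>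
      refine ⟨?_, hcomm a ha⟩
      obtain ⟨x', hx', ha'⟩ := Group.mem_conjugatesOfSet_iff.1 ha
      rw [Set.mem_singleton_iff.1 hx'] at ha'
      obtain ⟨c, rfl⟩ := isConj_iff.1 ha'
      rw [conj_pow, ← hn, pow_orderOf_eq_one, mul_one, mul_inv_cancel]
    | one => exact ⟨one_pow _, fun b _ => Commute.one_left b⟩
    | mul a b hac hbc ha hb =>
      refine ⟨?_, fun c hc => (ha.2 c hc).mul_left (hb.2 c hc)⟩
      have hab : Commute a b := by
        clear hb
        induction hbc using Subgroup.closure_induction with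
        | mem b hb => exact ha.2 b hb
        | one => exact Commute.one_right a
        | mul b c _ _ hb hc => exact hb.mul_right hc
        | inv b _ hb => exact hb.inv_right
      rw [hab.mul_pow, ha.1, hb.1, one_mul]
    | inv a _ ha => exact ⟨by rw [inv_pow, ha.1, inv_one], fun c hc => (ha.2 c hc).inv_left⟩
  have hpg : IsPGroup p Nx := fun w => ⟨n, Subtype.ext (by simpa using (hexp w w.2).1)⟩
  haveI : Nx.Normal := Subgroup.normalClosure_normal
  have hmax := P.3 (hpg.to_sup_of_normal_left P.2) le_sup_right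
  exact hmax ▸ Subgroup.mem_sup_left (Subgroup.subset_normalClosure rfl)

theorem nilpotent_C (hTI : ∀ x : G, Cfsg.IsTISubset (C x : Set G)) {x : G} (hx : x ≠ 1) :
    Group.IsNilpotent (C x) := by
  refine nilpotent_of_normal_centralizers fun y g b hb => ?_
  rcases eq_or_ne y 1 with rfl | hy
  · exact Commute.one_right _
  have hy1 : (y : G) ≠ 1 := fun e => hy (Subtype.ext e)
  have hxy : x ∈ C (y : G) := mem_C.2 (mem_C.1 y.2).symm
  have hg : (g : G) ∈ N (y : G) := mem_N_of_meet hTI hxy hx (by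
    rw [mem_C.1 g.2, mul_inv_cancel_right]; exact hxy)
  have hb' : (b : G) ∈ C (y : G) := mem_C.2 (congrArg Subtype.val hb.eq)
  exact Subtype.ext (mem_C.1 (conj_mem_of_mem_N hg hb') :)

/-- The central element of a Sylow subgroup controls a component. -/
theorem exists_component (hTI : ∀ x : G, Cfsg.IsTISubset (C x : Set G)) {p : ℕ} [Fact p.Prime]
    (P : Sylow p G) (hP : (P : Subgroup G) ≠ ⊥) :
    ∃ u ∈ (P : Subgroup G), orderOf u = p ∧ (P : Subgroup G) ≤ C u ∧
      ∀ a ∈ C u, a ≠ 1 → C a ≤ C u := by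
  haveI : Nontrivial (P : Subgroup G) := nontrivial_iff_ne_bot _ |>.2 hP
  haveI := P.2.center_nontrivial
  have hdvd : p ∣ Nat.card (Subgroup.center (P : Subgroup G)) := by
    obtain ⟨n, hn⟩ := IsPGroup.iff_card.1 (P.2.to_subgroup (Subgroup.center (P : Subgroup G)))
    rw [hn]
    refine dvd_pow_self p fun h0 => ?_
    rw [h0, pow_zero] at hn
    exact absurd hn (Finite.one_lt_card.ne')
  obtain ⟨⟨⟨u, huP⟩, huc⟩, hu⟩ := exists_prime_orderOf_dvd_card' p hdvd
  rw [Subgroup.orderOf_mk, Subgroup.orderOf_mk] at hu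
  have hu1 : u ≠ 1 := fun e => by
    rw [e, orderOf_one] at hu; exact (Fact.out : p.Prime).ne_one hu.symm
  have hPle : (P : Subgroup G) ≤ C u := fun g hg =>
    mem_C.2 (congrArg Subtype.val (Subgroup.mem_center_iff.1 huc ⟨g, hg⟩))
  refine ⟨u, huP, hu, hPle, fun a ha ha1 => ?_⟩
  haveI hnil := nilpotent_C hTI hu1
  let P' : Sylow p (C u) := P.subtype hPle
  have hP'n : (P' : Subgroup (C u)).Normal := by
    have h03 := (Group.isNilpotent_of_finite_tfae (G := C u)).out 0 3
    exact h03.mp hnil p ⟨Fact.out⟩ P'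
  have hpel : ∀ h ∈ C u, ∀ n, orderOf h = p ^ n → h ∈ (P : Subgroup G) := by
    intro h hh n hn
    have hz : IsPGroup p (zpowers (⟨h, hh⟩ : C u)) := IsPGroup.of_card (n := n) (by
      rw [Nat.card_zpowers, Subgroup.orderOf_mk, hn])
    have hmax := P'.3 (hz.to_sup_of_normal_right P'.2) le_sup_right
    have : (⟨h, hh⟩ : C u) ∈ (P' : Subgroup (C u)) := hmax ▸ mem_sup_left (mem_zpowers _)
    exact this
  refine le_of_prime_pow fun g hg r n hr hn => ?_
  rcases eq_or_ne r p with rfl | hrp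
  · have hgN : g ∈ N u := mem_N_of_meet hTI ha ha1 (by
      rw [mem_C.1 hg, mul_inv_cancel_right]; exact ha)
    have hconj : ∀ g ∈ N u, ∀ h ∈ (P : Subgroup G), g * h * g⁻¹ ∈ (P : Subgroup G) := by
      intro g hg h hh
      obtain ⟨k, hk⟩ := IsPGroup.iff_orderOf.1 P.2 ⟨h, hh⟩
      rw [Subgroup.orderOf_mk] at hk
      exact hpel _ (conj_mem_of_mem_N hg (hPle hh)) k (by
        rw [← MulAut.conj_apply, MulEquiv.orderOf_eq, hk])
    have hgP : zpowers g ≤ normalizer ((P : Subgroup G) : Set G) := zpowers_le.2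
      (mem_normalizer_iff.2 fun h => ⟨hconj g hgN h, fun hh => by
        have := hconj g⁻¹ (inv_mem hgN) _ hh
        simpa [mul_assoc] using this⟩)
    have hz : IsPGroup r (zpowers g) := IsPGroup.of_card (n := n) (by rw [Nat.card_zpowers, hn])
    have hmax := P.3 (hz.to_sup_of_normal_right' P.2 hgP) le_sup_right
    exact hPle (hmax ▸ mem_sup_left (mem_zpowers g))
  · refine mem_C.2 (CN.commute_of_coprime (nilpotent_C hTI ha1) hg ?_ ?_).eq
    · exact mem_C.2 (mem_C.1 ha).symm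
    · rw [hn, hu]
      exact ((Nat.coprime_primes hr Fact.out).2 hrp).pow_left n

theorem hall (hTI : ∀ x : G, Cfsg.IsTISubset (C x : Set G)) {u : G}
    (hcent : ∀ a ∈ C u, a ≠ 1 → C a ≤ C u) : (Nat.card (C u)).Coprime (C u).index := by
  refine Nat.coprime_of_dvd fun r hr hrC hri => ?_
  haveI := Fact.mk hr
  obtain ⟨⟨y, hy⟩, hyo⟩ := exists_prime_orderOf_dvd_card' (G := C u) r hrC
  rw [Subgroup.orderOf_mk] at hyo
  have hy1 : y ≠ 1 := fun e => hr.ne_one (by rw [← hyo, e, orderOf_one])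
  have hz : IsPGroup r (zpowers y) := IsPGroup.of_card (n := 1) (by
    rw [Nat.card_zpowers, hyo, pow_one])
  obtain ⟨R, hR⟩ := hz.exists_le_sylow
  have hyR : y ∈ (R : Subgroup G) := hR (mem_zpowers y)
  obtain ⟨z, -, hzo, hzR, -⟩ := exists_component hTI R fun e => hy1 (by rwa [e, mem_bot] at hyR)
  have hz1 : z ≠ 1 := fun e => hr.ne_one (by rw [← hzo, e, orderOf_one])
  have hzC : z ∈ C u := hcent y hy hy1 (mem_C.2 (mem_C.1 (hzR hyR)).symm)
  have hle : (R : Subgroup G) ≤ C u := hzR.trans (hcent z hzC hz1)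
  exact R.not_dvd_index (hri.trans (index_dvd_of_le hle))

theorem complement_of_selfnormalizing (hTI : ∀ x : G, Cfsg.IsTISubset (C x : Set G)) {u : G}
    (hu1 : u ≠ 1) (hne : C u ≠ ⊤) (hN : N u = C u) : Cfsg.IsFrobeniusComplement (C u) := by
  refine ⟨fun e => hu1 (mem_bot.1 (e ▸ self_mem_C u)), hne, fun g hg => ?_⟩
  rw [eq_bot_iff]
  rintro x ⟨hx, hx'⟩
  obtain ⟨y, hy, rfl⟩ := hx'
  have hx2 : g * y * g⁻¹ ∈ C u := hx
  rw [mem_bot]
  rcases eq_or_ne y 1 with rfl | hy1
  · exact map_one _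
  · exact absurd (hN ▸ mem_N_of_meet hTI hy hy1 hx2) hg

theorem complement_of_normal (hTI : ∀ x : G, Cfsg.IsTISubset (C x : Set G)) {u : G}
    (hu1 : u ≠ 1) (hne : C u ≠ ⊤) (hN : N u = ⊤) (hcent : ∀ a ∈ C u, a ≠ 1 → C a ≤ C u) :
    ∃ H : Subgroup G, Cfsg.IsFrobeniusComplement H := by
  haveI hn : (C u).Normal := normalizer_eq_top_iff.1 hN
  obtain ⟨H, hH⟩ := Subgroup.exists_right_complement'_of_coprime (hall hTI hcent)
  refine ⟨H, fun e => hne ?_, fun e => hu1 ?_, fun g hg => ?_⟩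
  · subst e; exact isComplement'_bot_right.1 hH
  · subst e
    exact mem_bot.1 ((isComplement'_top_right.1 hH) ▸ self_mem_C u)
  rw [eq_bot_iff]
  rintro x ⟨hx, hx'⟩
  obtain ⟨y, hy, rfl⟩ := hx'
  have hx2 : g * y * g⁻¹ ∈ H := hx
  rw [mem_bot]
  by_contra hne1
  have hy1 : y ≠ 1 := fun e => hne1 (by rw [e]; exact map_one _)
  obtain ⟨⟨⟨k, hk⟩, ⟨e, he⟩⟩, hke⟩ := (hH : Function.Bijective _).2 g
  have hke' : k * e = g := hke
  subst hke'
  have hy' : e * y * e⁻¹ ∈ H := mul_mem (mul_mem he hy) (inv_mem he)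
  set y' := e * y * e⁻¹ with hy'def
  have hy'1 : y' ≠ 1 := fun h => hy1 (conj_eq_one_iff.1 h)
  have hky : k * y' * k⁻¹ ∈ H := by
    rwa [hy'def, show k * (e * y * e⁻¹) * k⁻¹ = k * e * y * (k * e)⁻¹ by group]
  have hin : k * y' * k⁻¹ * y'⁻¹ ∈ C u := by
    rw [mul_assoc k y', mul_assoc k]
    exact mul_mem hk (hn.conj_mem _ (inv_mem hk) y')
  have h1 : k * y' * k⁻¹ * y'⁻¹ = 1 := by
    have h2 : k * y' * k⁻¹ * y'⁻¹ ∈ H := mul_mem hky (inv_mem hy')
    exact mem_bot.1 (hH.disjoint.eq_bot ▸ mem_inf.2 ⟨hin, h2⟩)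
  have hk1 : k ≠ 1 := fun h => hg (by rw [h, one_mul]; exact he)
  have hcomm : y' ∈ C k := mem_C.2 (mul_inv_eq_iff_eq_mul.1 (mul_inv_eq_one.1 h1)).symm
  exact hy'1 (mem_bot.1 (hH.disjoint.eq_bot ▸ mem_inf.2 ⟨hcent k hk hk1 hcomm, hy'⟩))

/-- A group without Frobenius complement and with trivial centre is `PSL₂(2ⁿ)`. -/
theorem psl_case (hTI : ∀ x : G, Cfsg.IsTISubset (C x : Set G)) (hZ : Subgroup.center G = ⊥)
    [Nontrivial G] (hnF : ∀ H : Subgroup G, ¬ Cfsg.IsFrobeniusComplement H) :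
    ∃ f : ℕ, 2 ≤ f ∧ Nonempty
      (G ≃* Matrix.ProjectiveSpecialLinearGroup (Fin 2) (GaloisField 2 f)) := by
  have hCne : ∀ {u : G}, u ≠ 1 → C u ≠ ⊤ := fun {u} hu h => hu (by
    have : u ∈ Subgroup.center G := Subgroup.mem_center_iff.2 fun g => mem_C.1 (h ▸ mem_top g)
    rwa [hZ, mem_bot] at this)
  have hNne : ∀ {u : G}, u ≠ 1 → (∀ a ∈ C u, a ≠ 1 → C a ≤ C u) → N u ≠ ⊤ ∧ N u ≠ C u :=
    fun {u} hu hcent => ⟨fun h => by
      obtain ⟨H, hH⟩ := complement_of_normal hTI hu (hCne hu) h hcent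
      exact hnF H hH,
      fun h => hnF _ (complement_of_selfnormalizing hTI hu (hCne hu) h)⟩
  -- normal abelian subgroups are trivial
  have habel : ∀ A : Subgroup G, A.Normal → IsMulCommutative A → A = ⊥ := by
    intro A hA hAc
    by_contra hA1
    obtain ⟨p, hp, hpd⟩ := Nat.exists_prime_and_dvd (fun h => hA1 (Subgroup.card_eq_one.1 h))
    haveI := Fact.mk hp
    obtain ⟨⟨a, ha⟩, hao⟩ := exists_prime_orderOf_dvd_card' (G := A) p hpd
    rw [Subgroup.orderOf_mk] at hao
    have ha1 : a ≠ 1 := fun e => hp.ne_one (by rw [← hao, e, orderOf_one])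
    have hz : IsPGroup p (zpowers a) := IsPGroup.of_card (n := 1) (by
      rw [Nat.card_zpowers, hao, pow_one])
    obtain ⟨P, hP⟩ := hz.exists_le_sylow
    have haP : a ∈ (P : Subgroup G) := hP (mem_zpowers a)
    obtain ⟨u, -, huo, hPu, hcent⟩ := exists_component hTI P fun e => ha1 (by
      rwa [e, mem_bot] at haP)
    have hu1 : u ≠ 1 := fun e => hp.ne_one (by rw [← huo, e, orderOf_one])
    refine (hNne hu1 hcent).1 ((eq_top_iff' _).2 fun g => mem_N_of_meet hTI (hPu haP) ha1 ?_)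
    refine hcent a (hPu haP) ha1 (mem_C.2 ?_)
    exact congrArg Subtype.val (mul_comm' (⟨_, hA.conj_mem a ha g⟩ : A) ⟨a, ha⟩)
  have hev : ∀ M : Subgroup G, M.Normal → M ≠ ⊥ → ∃ t ∈ M, Invn t := by
    intro M hM hM1
    haveI : Fact (Nat.Prime 2) := ⟨Nat.prime_two⟩
    by_cases h2 : 2 ∣ Nat.card M
    · obtain ⟨⟨t, ht⟩, hto⟩ := exists_prime_orderOf_dvd_card' (G := M) 2 h2
      rw [Subgroup.orderOf_mk] at hto
      refine ⟨t, ht, fun e => ?_, ?_⟩
      · rw [e, orderOf_one] at hto; omega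
      · rw [← pow_two, ← hto, pow_orderOf_eq_one]
    exfalso
    have hCN : Cfsg.IsCNGroup M := fun x hx => by
      haveI := nilpotent_C hTI (x := (x : G)) fun e => hx (Subtype.ext e)
      let f : Subgroup.centralizer ({x} : Set M) →* C (x : G) :=
        { toFun := fun c => ⟨((c : M) : G), mem_C.2 (congrArg Subtype.val
            (mem_centralizer_singleton_iff.1 c.2))⟩
          map_one' := rfl
          map_mul' := fun _ _ => rfl }
      refine Subgroup.isNilpotent_of_ker_le_center f ?_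
      rw [(MonoidHom.ker_eq_bot_iff f).mpr fun a b h =>
        Subtype.ext (Subtype.ext (congrArg Subtype.val h :))]
      exact bot_le
    have hsol : Group.IsSolvable M :=
      S0183.result (Nat.odd_iff.2 (Nat.two_dvd_ne_zero.1 h2)) hCN
    obtain ⟨n, hn⟩ := (Group.isSolvable_def M).1 hsol
    have key : ∀ k, derivedSeries M k = ⊥ → M = ⊥ := by
      intro k
      induction k with
      | zero =>
        intro h
        rw [derivedSeries_zero] at h
        have := congrArg (Subgroup.map M.subtype) h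
        rwa [← MonoidHom.range_eq_map, M.range_subtype, Subgroup.map_bot] at this
      | succ k ih =>
        intro h
        refine ih ?_
        haveI : IsMulCommutative ((derivedSeries M k).map M.subtype : Subgroup G) := by
          rw [derivedSeries_succ, commutator_eq_bot_iff_le_centralizer] at h
          refine .of_setLike_mul_comm ?_
          rintro _ ⟨a, ha, rfl⟩ _ ⟨b, hb, rfl⟩
          rw [← map_mul, ← map_mul]
          exact congrArg _ (mem_centralizer_iff.1 (h ha) b hb).symm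
        haveI := hM
        have := habel ((derivedSeries M k).map M.subtype) inferInstance inferInstance
        rwa [map_eq_bot_iff_of_injective _ M.subtype_injective] at this
    exact hM1 (key n hn)
  obtain ⟨t₀, -, ht₀⟩ := hev ⊤ inferInstance top_ne_bot
  haveI : Fact (Nat.Prime 2) := ⟨Nat.prime_two⟩
  -- every involution centraliser is a component
  have key : ∀ t : G, Invn t → (∀ a ∈ C t, a ≠ 1 → C a ≤ C t) ∧ N t ≠ ⊤ ∧ N t ≠ C t ∧
      ∀ g ∈ N t, ∀ a ∈ C t, a ≠ 1 → ∀ b ∈ C a, g * b * g⁻¹ ∈ C a := by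
    intro t ht
    have hz : IsPGroup 2 (zpowers t) := by
      refine IsPGroup.of_card (n := 1) ?_
      rw [Nat.card_zpowers, pow_one]
      exact orderOf_eq_prime (by rw [pow_two]; exact ht.2) ht.1
    obtain ⟨S, hS⟩ := hz.exists_le_sylow
    have htS : t ∈ (S : Subgroup G) := hS (mem_zpowers t)
    obtain ⟨u, -, huo, hSu, hcent⟩ := exists_component hTI S fun e => ht.1 (by
      rwa [e, mem_bot] at htS)
    have hu : Invn u := ⟨fun e => by rw [e, orderOf_one] at huo; omega,
      by rw [← pow_two, ← huo, pow_orderOf_eq_one]⟩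
    obtain ⟨hN1, hN2⟩ := hNne hu.1 hcent
    have hnormal : ∀ g ∈ N u, ∀ a ∈ C u, a ≠ 1 → ∀ b ∈ C a, g * b * g⁻¹ ∈ C a := by
      intro g hg a ha ha1 b hb
      have hg' : g ∈ N a := by
        refine mem_N_of_meet hTI (y := g⁻¹ * u * g) ?_ ?_ ?_
        · rw [← conj_mem_C g, mem_C]
          rw [show g * (g⁻¹ * u * g) * g⁻¹ = u by group]
          exact (mem_C.1 (conj_mem_of_mem_N hg ha)).symm
        · intro e
          exact hu.1 (conj_eq_one_iff.1 (show g⁻¹ * u * g⁻¹⁻¹ = 1 by rwa [inv_inv]))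
        · rw [show g * (g⁻¹ * u * g) * g⁻¹ = u by group]
          exact mem_C.2 (mem_C.1 ha).symm
      exact conj_mem_of_mem_N hg' hb
    obtain ⟨h, hh⟩ : ∃ h, h ∉ N u := by
      by_contra hc
      push Not at hc
      exact hN1 ((eq_top_iff' _).2 hc)
    set w := h * u * h⁻¹ with hw
    have hwn : w ∉ C u := fun hm => hh (mem_N_of_meet hTI (self_mem_C u) hu.1 hm)
    have hto_w : ∀ a, Invn a → a ∈ C u → IsConj a w := fun a ha hau => by
      refine (conj_or_common ha (hu.conj h)).resolve_right ?_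
      rintro ⟨i, hi, hia, hiw⟩
      have hiu : i ∈ C u := hcent a hau ha.1 hia
      exact hwn (hcent i hiu hi.1 (mem_C.2 (mem_C.1 hiw).symm))
    obtain ⟨g, hg⟩ := isConj_iff.1 ((hto_w t ht (hSu htS)).trans (hto_w u hu (self_mem_C u)).symm)
    have hgN : g ∈ N u := mem_N_of_meet hTI (hSu htS) ht.1 (hg ▸ self_mem_C u)
    have hCt : C t = C u := by
      ext b
      refine ⟨fun hb => hcent t (hSu htS) ht.1 hb, fun hb => ?_⟩
      have hb' : g * b * g⁻¹ ∈ C (g * t * g⁻¹) := hg.symm ▸ conj_mem_of_mem_N hgN hb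
      exact (conj_mem_C g).1 hb'
    unfold CASimple.N at hN1 hN2 hnormal ⊢
    rw [hCt]
    exact ⟨hcent, hN1, hN2, hnormal⟩
  have hcfg : Cfg G := by
    refine ⟨fun {s} _ {g a} ha ha1 hga => mem_N_of_meet hTI ha ha1 hga,
      fun {s} hs {a} ha ha1 => (key s hs).1 a ha ha1, fun {s} hs => ?_, fun {s} hs => ?_⟩
    · obtain ⟨g, hg, hgC⟩ : ∃ g, g ∈ N s ∧ g ∉ C s := by
        by_contra hc
        push Not at hc
        exact (key s hs).2.2.1 (le_antisymm hc le_normalizer)
      refine ⟨g * s * g⁻¹, hs.conj g, conj_mem_of_mem_N hg (self_mem_C s), fun e => hgC ?_⟩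
      exact mem_C.2 (mul_inv_eq_iff_eq_mul.1 e)
    · obtain ⟨g, hg⟩ : ∃ g, g ∉ N s := by
        by_contra hc
        push Not at hc
        exact (key s hs).2.1 ((eq_top_iff' _).2 hc)
      exact ⟨g * s * g⁻¹, hs.conj g, fun hm => hg (mem_N_of_meet hTI (self_mem_C s) hs.1 hm)⟩
  exact classify hcfg hev ht₀ (key t₀ ht₀).2.2.2

end Cfsg.Agent.TICent
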